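import Mathlib
import Cfsg.Prelude.Def_Transfer
import Cfsg.Agent.H19.Misc
import Cfsg.Agent.H24.Extraspecial

/-! `p`-groups with an extraspecial subgroup of index `p`. -/

set_option autoImplicit false

namespace Cfsg.Agent.H84

open scoped commutatorElement

variable {S : Type*} [Group S] [Finite S] {p : ℕ} [Fact p.Prime]

/-- A subgroup of index `p` of a `p`-group is a coatom, normal, and contains the commutators. -/
theorem index_prime_spec (hS : IsPGroup p S) {Q : Subgroup S} (hQi : Q.index = p) :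
    IsCoatom Q ∧ Q.Normal ∧ commutator S ≤ Q := by
  have hp := (Fact.out : p.Prime)
  have hco : IsCoatom Q := by
    refine ⟨fun h => hp.ne_one (by rw [← hQi, h, Subgroup.index_top]), fun K hK => ?_⟩
    have h := Subgroup.relIndex_mul_index hK.le
    rw [hQi] at h
    rcases (Nat.dvd_prime hp).1 (Dvd.intro_left _ h) with h1 | h1
    · exact Subgroup.index_eq_one.1 h1
    · rw [h1] at h
      have h2 : Q.relIndex K = 1 := Nat.eq_of_mul_eq_mul_right hp.pos (by rw [h, one_mul])
      exact absurd (Subgroup.relIndex_eq_one.1 h2) (not_le_of_gt hK)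
  exact ⟨hco, (H24.coatom_spec hS hco).1, (H24.coatom_spec hS hco).2.2⟩

variable {Q : Subgroup S}

/-- The image in `S` of the centre of `Q`. -/
theorem center_map_eq (hS : IsPGroup p S) (hQ : Cfsg.IsExtraspecial p ↥Q) (hQi : Q.index = p) :
    (Subgroup.center ↥Q).map Q.subtype = Q ⊓ Subgroup.center S := by
  haveI := (index_prime_spec hS hQi).2.1
  haveI := hS.isNilpotent
  have hle : Q ⊓ Subgroup.center S ≤ (Subgroup.center ↥Q).map Q.subtype := by
    rintro x ⟨hx, hxc⟩
    exact ⟨⟨x, hx⟩, Subgroup.mem_center_iff.2 fun y =>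
      Subtype.ext (Subgroup.mem_center_iff.1 hxc y), rfl⟩
  have hQne : Q ≠ ⊥ := by
    intro h
    have h1 : Subgroup.center ↥Q = ⊤ := by
      haveI : Subsingleton Q := by rw [h]; infer_instance
      exact Subsingleton.elim _ _
    exact H24.espec_center_ne_top hQ h1
  refine (Subgroup.eq_of_le_of_card_ge hle ?_).symm
  rw [Subgroup.card_map_of_injective Q.subtype_injective, hQ.2]
  obtain ⟨i, hi⟩ := IsPGroup.iff_card.1 (hS.to_subgroup (Q ⊓ Subgroup.center S))
  rw [hi]
  refine le_self_pow (Fact.out : p.Prime).one_le (fun h => H19.inf_center_ne_bot Q hQne ?_)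
  exact Subgroup.card_eq_one.1 (by rw [hi, h, pow_zero])

/-- There is `a ∈ Q` outside `Z(Q)` whose centraliser has index `p` in `S`. -/
theorem exists_centralizer_index_prime (hS : IsPGroup p S) (hQ : Cfsg.IsExtraspecial p ↥Q)
    (hQi : Q.index = p) :
    ∃ a ∈ Q, a ∉ Subgroup.center S ∧ (Subgroup.centralizer ({a} : Set S)).index = p := by
  have hp := (Fact.out : p.Prime)
  haveI := (index_prime_spec hS hQi).2.1
  set Z := (Subgroup.center ↥Q).map Q.subtype with hZdef
  have hZeq : Z = Q ⊓ Subgroup.center S := center_map_eq hS hQ hQi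
  have hZc : Z ≤ Subgroup.center S := hZeq.le.trans inf_le_right
  haveI : Z.Normal := ⟨fun z hz g => by rwa [Subgroup.mem_center_iff.1 (hZc hz) g, mul_inv_cancel_right]⟩
  have hZcard : Nat.card Z = p := by
    rw [hZdef, Subgroup.card_map_of_injective Q.subtype_injective, hQ.2]
  haveI : Group.IsNilpotent (S ⧸ Z) := (hS.to_quotient Z).isNilpotent
  haveI : (Q.map (QuotientGroup.mk' Z)).Normal :=
    (inferInstance : Q.Normal).map _ (QuotientGroup.mk'_surjective Z)
  have hne : Q.map (QuotientGroup.mk' Z) ≠ ⊥ := by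
    rw [ne_eq, Subgroup.map_eq_bot_iff, QuotientGroup.ker_mk']
    intro h
    exact H24.espec_center_ne_top hQ ((Subgroup.eq_top_iff' _).2 fun x => by
      obtain ⟨y, hy, hye⟩ := h x.2
      exact (Subtype.ext hye : y = x) ▸ hy)
  obtain ⟨_, ⟨⟨a, ha, rfl⟩, hac⟩, hane⟩ :=
    (Subgroup.bot_or_exists_ne_one _).resolve_left (H19.inf_center_ne_bot _ hne)
  have haZ : a ∉ Z := fun h => hane ((QuotientGroup.eq_one_iff a).2 h)
  have hanc : a ∉ Subgroup.center S := fun h => haZ (hZeq ▸ ⟨ha, h⟩)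
  have hcomm : ∀ s : S, ⁅s, a⁆ ∈ Z := by
    intro s
    rw [← QuotientGroup.eq_one_iff]
    show QuotientGroup.mk' Z _ = 1
    rw [map_commutatorElement, commutatorElement_eq_one_iff_mul_comm]
    exact Subgroup.mem_center_iff.1 hac _
  let f : S →* Z := MonoidHom.mk' (fun s => ⟨⁅s, a⁆, hcomm s⟩) fun s t => Subtype.ext (by
    show ⁅s * t, a⁆ = ⁅s, a⁆ * ⁅t, a⁆
    have h1 := Subgroup.mem_center_iff.1 (hZc (hcomm t)) s
    have h2 := Subgroup.mem_center_iff.1 (hZc (hcomm t)) ⁅s, a⁆
    calc ⁅s * t, a⁆ = s * ⁅t, a⁆ * s⁻¹ * ⁅s, a⁆ := by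
          simp only [commutatorElement_def]; group
      _ = ⁅t, a⁆ * ⁅s, a⁆ := by rw [h1, mul_inv_cancel_right]
      _ = ⁅s, a⁆ * ⁅t, a⁆ := h2.symm)
  have hker : Subgroup.centralizer ({a} : Set S) = f.ker := by
    ext s
    rw [Subgroup.mem_centralizer_singleton_iff, MonoidHom.mem_ker,
      ← commutatorElement_eq_one_iff_mul_comm]
    exact ⟨fun h => Subtype.ext h, fun h => congrArg Subtype.val h⟩
  refine ⟨a, ha, hanc, ?_⟩
  have hd : f.ker.index ∣ p := by
    rw [Subgroup.index_ker, ← hZcard]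
    exact Subgroup.card_subgroup_dvd_card _
  rw [hker]
  refine ((Nat.dvd_prime hp).1 hd).resolve_left fun h => hanc ?_
  rw [Subgroup.index_eq_one] at h
  exact Subgroup.mem_center_iff.2 fun s =>
    Subgroup.mem_centralizer_singleton_iff.1 (hker ▸ h ▸ Subgroup.mem_top s)

end Cfsg.Agent.H84
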