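import Mathlib
import Cfsg.Agent.H20.Generation
import Cfsg.Agent.H20.FixedPoints
import Cfsg.Agent.H21.ThompsonFpf
import Cfsg.Agent.H55.FittingHall

set_option autoImplicit false

open scoped commutatorElement Pointwise

/-! Ward's lemma: an elementary abelian group `A` of order `p²` acting fixed-point-freely on
`W`, `Q` and `R`, with `R` normalising the `q`-group `Q` and both acting on the nilpotent
`W`; then `[R, Q]` centralises `W`. -/

namespace Cfsg.Agent.H84

variable {Γ : Type*} [Group Γ]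

/-- The set of commutators `[y, c]`, `y` in `Y`. -/
def dispSet (Y : Subgroup Γ) (c : Γ) : Set Γ := (fun y => ⁅y, c⁆) '' (Y : Set Γ)

theorem conj_mem_of_mem_normalizer {H : Subgroup Γ} {g h : Γ}
    (hg : g ∈ Subgroup.normalizer (H : Set Γ)) (hh : h ∈ H) : g * h * g⁻¹ ∈ H :=
  (Subgroup.mem_normalizer_iff.1 hg h).1 hh

/-- An element conjugating a finite subgroup into itself normalises it. -/
theorem mem_normalizer_of_forall [Finite Γ] {H : Subgroup Γ} {g : Γ}
    (h : ∀ k ∈ H, g * k * g⁻¹ ∈ H) : g ∈ Subgroup.normalizer (H : Set Γ) := by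
  apply H20.mem_normalizer_of_conj_smul_eq
  refine Subgroup.eq_of_le_of_card_ge ?_ (H20.card_conj_smul g H).ge
  intro x hx
  rw [H20.mem_conj_smul] at hx
  simpa [mul_assoc] using h _ hx

theorem dispSet_subset {Y : Subgroup Γ} {c : Γ} (hc : c ∈ Subgroup.normalizer (Y : Set Γ)) :
    dispSet Y c ⊆ (Y : Set Γ) := by
  rintro _ ⟨y, hy, rfl⟩
  simp only [commutatorElement_def, SetLike.mem_coe]
  rw [mul_assoc, mul_assoc, ← mul_assoc c]
  exact mul_mem hy (conj_mem_of_mem_normalizer hc (inv_mem hy))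

/-- `W` is generated by the centralisers of the sets `[B, a]`, `1 ≠ a ∈ A`. -/
theorem le_iSup_centralizer_dispSet [Finite Γ] {A B W : Subgroup Γ} [IsMulCommutative W]
    (hAB : A ≤ Subgroup.normalizer (B : Set Γ)) (hAW : A ≤ Subgroup.normalizer (W : Set Γ))
    (hBW : B ≤ Subgroup.normalizer (W : Set Γ))
    (hB : ∀ x ∈ B, ∀ y ∈ B, x * y = y * x) (hcop : (Nat.card B).Coprime (Nat.card W))
    (hfix : W ⊓ Subgroup.centralizer (A : Set Γ) = ⊥) :
    W ≤ ⨆ a ∈ {a : Γ | a ∈ A ∧ a ≠ 1}, W ⊓ Subgroup.centralizer (dispSet B a) := by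
  classical
  letI : CommGroup W :=
    { (inferInstance : Group W) with mul_comm := fun a b => IsMulCommutative.is_comm.comm a b }
  have := Fintype.ofFinite A
  have := Fintype.ofFinite B
  set H := ⨆ a ∈ {a : Γ | a ∈ A ∧ a ≠ 1}, W ⊓ Subgroup.centralizer (dispSet B a) with hH
  let φ := W.normalizerMonoidHom
  have hφ : ∀ (g : Γ) (hg : g ∈ Subgroup.normalizer (W : Set Γ)) (w : W),
      ((φ ⟨g, hg⟩ w : W) : Γ) = g * w * g⁻¹ := fun g hg w => rfl
  let iA : A → ↥(Subgroup.normalizer (W : Set Γ)) := fun a => ⟨a, hAW a.2⟩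
  let iB : B → ↥(Subgroup.normalizer (W : Set Γ)) := fun b => ⟨b, hBW b.2⟩
  suffices key : ∀ w : W, ((w : Γ)) ^ Nat.card B ∈ H by
    intro w hw
    have hk := key ⟨w, hw⟩
    have hco : (Nat.card B).Coprime (orderOf w) :=
      hcop.coprime_dvd_right (Subgroup.orderOf_dvd_natCard W hw)
    obtain ⟨m, hm⟩ := exists_pow_eq_self_of_coprime hco
    rw [← hm]
    exact pow_mem hk m
  intro w
  -- the product over a conjugate of `A` is trivial
  have hzero : ∀ b : B, (∏ a : A, φ (iB b * iA a * (iB b)⁻¹) w) = 1 := by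
    intro b
    set y := ∏ a : A, φ (iB b * iA a * (iB b)⁻¹) w with hy
    have hfx : ∀ c : A, φ (iB b * iA c * (iB b)⁻¹) y = y := by
      intro c
      rw [hy, map_prod]
      refine Fintype.prod_equiv (Equiv.mulLeft c) _ _ fun a => ?_
      rw [← MulAut.mul_apply, ← map_mul]
      congr 2
      have : iA ((Equiv.mulLeft c) a) = iA c * iA a := rfl
      rw [this]
      group
    have h0 : (φ (iB b))⁻¹ y = 1 := by
      apply Subtype.ext
      rw [OneMemClass.coe_one, ← Subgroup.mem_bot, ← hfix]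
      refine ⟨SetLike.coe_mem _, ?_⟩
      show ((φ (iB b))⁻¹ y : Γ) ∈ Subgroup.centralizer (A : Set Γ)
      rw [Subgroup.mem_centralizer_iff]
      intro c hc
      have h1 : φ (iA ⟨c, hc⟩) ((φ (iB b))⁻¹ y) = (φ (iB b))⁻¹ y := by
        conv_rhs => rw [← hfx ⟨c, hc⟩]
        simp only [map_mul, map_inv, MulAut.mul_apply, MulAut.inv_apply, MulEquiv.symm_apply_apply]
      have h2 := congrArg Subtype.val h1
      rw [hφ c (hAW hc)] at h2
      exact mul_inv_eq_iff_eq_mul.1 h2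
    have h3 := congrArg (φ (iB b)) h0
    rwa [map_one, MulAut.inv_apply, MulEquiv.apply_symm_apply] at h3
  have hsum : (∏ a : A, ∏ b : B, φ (iB b * iA a * (iB b)⁻¹) w) = 1 := by
    rw [Finset.prod_comm]
    exact Finset.prod_eq_one fun b _ => hzero b
  rw [← Finset.mul_prod_erase Finset.univ _ (Finset.mem_univ (1 : A))] at hsum
  have h1 : (∏ b : B, φ (iB b * iA 1 * (iB b)⁻¹) w) = w ^ Nat.card B := by
    have : iA 1 = 1 := rfl
    simp [this, Nat.card_eq_fintype_card]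
  rw [h1] at hsum
  have hrest : ∀ a ∈ Finset.univ.erase (1 : A),
      (∏ b : B, φ (iB b * iA a * (iB b)⁻¹) w) ∈ H.comap W.subtype := by
    intro a ha
    have hane : (a : Γ) ≠ 1 := fun h => (Finset.mem_erase.1 ha).1 (Subtype.ext h)
    refine le_iSup₂ (f := fun a (_ : a ∈ {a : Γ | a ∈ A ∧ a ≠ 1}) =>
      W ⊓ Subgroup.centralizer (dispSet B a)) (a : Γ) ⟨a.2, hane⟩ ⟨SetLike.coe_mem _, ?_⟩
    show ((∏ b : B, φ (iB b * iA a * (iB b)⁻¹) w : W) : Γ) ∈ Subgroup.centralizer (dispSet B a)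
    rw [Subgroup.mem_centralizer_iff]
    rintro _ ⟨c, hc, rfl⟩
    have hcB : ⁅c, (a : Γ)⁆ ∈ B := dispSet_subset (hAB a.2) ⟨c, hc, rfl⟩
    have hfc : φ (iB ⟨⁅c, (a : Γ)⁆, hcB⟩) (∏ b : B, φ (iB b * iA a * (iB b)⁻¹) w)
        = ∏ b : B, φ (iB b * iA a * (iB b)⁻¹) w := by
      rw [map_prod]
      refine Fintype.prod_equiv (Equiv.mulLeft (⟨c, hc⟩ : B)) _ _ fun b => ?_
      rw [← MulAut.mul_apply, ← map_mul]
      congr 2
      refine Subtype.ext ?_
      show ⁅c, (a : Γ)⁆ * ((b : Γ) * a * (b : Γ)⁻¹) = c * b * a * (c * (b : Γ))⁻¹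
      have hb : ⁅(b : Γ), (a : Γ)⁆ ∈ B := dispSet_subset (hAB a.2) ⟨b, b.2, rfl⟩
      calc ⁅c, (a : Γ)⁆ * ((b : Γ) * a * (b : Γ)⁻¹)
          = (⁅c, (a : Γ)⁆ * ⁅(b : Γ), (a : Γ)⁆) * a := by
            simp [commutatorElement_def, mul_assoc]
        _ = (⁅(b : Γ), (a : Γ)⁆ * ⁅c, (a : Γ)⁆) * a := by rw [hB _ hcB _ hb]
        _ = ⁅(b : Γ), (a : Γ)⁆ * (c * a * c⁻¹) := by simp [commutatorElement_def, mul_assoc]
        _ = c * ⁅(b : Γ), (a : Γ)⁆ * a * c⁻¹ := by
            have hac : (a : Γ) * c⁻¹ * (a : Γ)⁻¹ ∈ B :=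
              conj_mem_of_mem_normalizer (hAB a.2) (inv_mem hc)
            calc ⁅(b : Γ), (a : Γ)⁆ * (c * a * c⁻¹)
                = (⁅(b : Γ), (a : Γ)⁆ * c) * a * c⁻¹ := by group
              _ = (c * ⁅(b : Γ), (a : Γ)⁆) * a * c⁻¹ := by rw [hB _ hb _ hc]
        _ = c * b * a * (c * (b : Γ))⁻¹ := by simp [commutatorElement_def, mul_assoc]
    have h2 := congrArg Subtype.val hfc
    rw [hφ _ (hBW hcB)] at h2
    exact mul_inv_eq_iff_eq_mul.1 h2
  have hmem := inv_mem (prod_mem hrest)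
  rw [← eq_inv_of_mul_eq_one_left hsum] at hmem
  rw [Subgroup.mem_comap, map_pow] at hmem
  exact hmem

/-- Elements normalising `Y` and `K` and acting trivially on `Y / K`. -/
def fixMod (Y K : Subgroup Γ) : Subgroup Γ where
  carrier := {g | g ∈ Subgroup.normalizer (Y : Set Γ) ∧ g ∈ Subgroup.normalizer (K : Set Γ) ∧
    ∀ y ∈ Y, g * y * g⁻¹ * y⁻¹ ∈ K}
  one_mem' := ⟨one_mem _, one_mem _, fun y _ => by simp⟩
  mul_mem' := by
    rintro g h ⟨hgY, hgK, hg⟩ ⟨hhY, hhK, hh⟩
    refine ⟨mul_mem hgY hhY, mul_mem hgK hhK, fun y hy => ?_⟩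
    have e : g * h * y * (g * h)⁻¹ * y⁻¹
        = (g * (h * y * h⁻¹ * y⁻¹) * g⁻¹) * (g * y * g⁻¹ * y⁻¹) := by group
    rw [e]
    exact mul_mem (conj_mem_of_mem_normalizer hgK (hh y hy)) (hg y hy)
  inv_mem' := by
    rintro g ⟨hgY, hgK, hg⟩
    refine ⟨inv_mem hgY, inv_mem hgK, fun y hy => ?_⟩
    have h := inv_mem (hg _ (conj_mem_of_mem_normalizer (inv_mem hgY) hy))
    have e : g⁻¹ * y * g⁻¹⁻¹ * y⁻¹
        = (g * (g⁻¹ * y * g⁻¹⁻¹) * g⁻¹ * (g⁻¹ * y * g⁻¹⁻¹)⁻¹)⁻¹ := by group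
    rwa [e]

theorem mem_fixMod {Y K : Subgroup Γ} {g : Γ} :
    g ∈ fixMod Y K ↔ g ∈ Subgroup.normalizer (Y : Set Γ) ∧ g ∈ Subgroup.normalizer (K : Set Γ) ∧
      ∀ y ∈ Y, g * y * g⁻¹ * y⁻¹ ∈ K := Iff.rfl

/-- `fixMod` is transported by conjugation. -/
theorem conj_mem_fixMod {Y K : Subgroup Γ} {g s : Γ} (hs : s ∈ Subgroup.normalizer (Y : Set Γ))
    (hg : g ∈ fixMod Y K) : s * g * s⁻¹ ∈ fixMod Y (MulAut.conj s • K) := by
  obtain ⟨hgY, hgK, hfix⟩ := mem_fixMod.1 hg
  refine mem_fixMod.2 ⟨mul_mem (mul_mem hs hgY) (inv_mem hs), ?_, fun y hy => ?_⟩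
  · apply H20.mem_normalizer_of_conj_smul_eq
    rw [← mul_smul, ← map_mul, inv_mul_cancel_right, map_mul, mul_smul,
      H20.conj_smul_eq_of_mem_normalizer hgK]
  · rw [H20.mem_conj_smul]
    have hy' : s⁻¹ * y * s⁻¹⁻¹ ∈ Y := conj_mem_of_mem_normalizer (inv_mem hs) hy
    have h := hfix _ hy'
    have e : s⁻¹ * (s * g * s⁻¹ * y * (s * g * s⁻¹)⁻¹ * y⁻¹) * s
        = g * (s⁻¹ * y * s⁻¹⁻¹) * g⁻¹ * (s⁻¹ * y * s⁻¹⁻¹)⁻¹ := by group
    rwa [e]

/-- An element commuting with `Y`'s displacement set: `c` acts trivially on `Y` modulo the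
subgroup generated by the commutators `[y, c]`. -/
theorem mem_fixMod_of_dispSet {Y K : Subgroup Γ} {c : Γ}
    (hc : c ∈ Subgroup.normalizer (Y : Set Γ)) (hKY : K ≤ Y) [Finite Γ]
    (h : dispSet Y c ⊆ (K : Set Γ)) : c ∈ fixMod Y K := by
  have h' : ∀ y ∈ Y, c * y * c⁻¹ * y⁻¹ ∈ K := by
    intro y hy
    have := inv_mem (h ⟨y, hy, rfl⟩ : ⁅y, c⁆ ∈ K)
    rwa [commutatorElement_inv, commutatorElement_def] at this
  refine mem_fixMod.2 ⟨hc, ?_, h'⟩
  refine mem_normalizer_of_forall fun k hk => ?_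
  have := mul_mem (h' k (hKY hk)) hk
  simpa [mul_assoc] using this

section Ward

variable [Finite Γ] {A : Subgroup Γ} {p : ℕ} [Fact p.Prime]

/-- Two elements generate a group of order `p²`. -/
theorem le_of_two_mem (hA : Nat.card A = p ^ 2) {c d : Γ} {H : Subgroup Γ} (hc : c ∈ A)
    (hd : d ∈ A) (hc1 : c ≠ 1) (hd1 : d ∉ Subgroup.zpowers c) (hcH : c ∈ H) (hdH : d ∈ H) :
    A ≤ H := by
  have hp : p.Prime := Fact.out
  set L := Subgroup.closure ({c, d} : Set Γ) with hL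
  have hLA : L ≤ A := by
    rw [hL, Subgroup.closure_le]; rintro x (rfl | rfl) <;> assumption
  have hLH : L ≤ H := by
    rw [hL, Subgroup.closure_le]; rintro x (rfl | rfl) <;> assumption
  suffices L = A by rw [← this]; exact hLH
  refine Subgroup.eq_of_le_of_card_ge hLA ?_
  have hcL : Subgroup.zpowers c ≤ L := Subgroup.zpowers_le.2 (Subgroup.subset_closure (Or.inl rfl))
  have hne : Subgroup.zpowers c ≠ L := fun h =>
    hd1 (h ▸ Subgroup.subset_closure (Or.inr rfl))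
  obtain ⟨i, hi, hic⟩ := (Nat.dvd_prime_pow hp).1 (hA ▸ Subgroup.card_dvd_of_le hLA)
  obtain ⟨j, hj, hjc⟩ := (Nat.dvd_prime_pow hp).1
    (hA ▸ Subgroup.card_dvd_of_le (hcL.trans hLA))
  have hji : p ^ j < p ^ i := by
    rw [← hic, ← hjc]
    rcases lt_or_eq_of_le (Subgroup.card_le_of_le hcL) with h | h
    · exact h
    · exact absurd (Subgroup.eq_of_le_of_card_ge hcL h.ge) hne
  have hj0 : j ≠ 0 := by
    rintro rfl
    rw [pow_zero, Subgroup.card_eq_one, Subgroup.zpowers_eq_bot] at hjc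
    exact hc1 hjc
  have := (Nat.pow_lt_pow_iff_right hp.one_lt).1 hji
  rw [hA, hic]
  exact Nat.pow_le_pow_right hp.pos (by omega)

/-- If `A` acts trivially on `Y / K` and freely on `Y`, then `Y ≤ K`. -/
theorem le_of_le_fixMod [IsMulCommutative A] {Y K : Subgroup Γ}
    (hY : ∀ x ∈ Y, ∀ y ∈ Y, x * y = y * x) (hcop : (Nat.card A).Coprime (Nat.card Y))
    (hfix : Y ⊓ Subgroup.centralizer (A : Set Γ) = ⊥) (hKY : K ≤ Y) (h : A ≤ fixMod Y K) :
    Y ≤ K := by
  intro y hy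
  obtain ⟨c, hc, hce⟩ := H20.exists_fixed_mem_coset hcop
    (Or.inl (H20.isSolvable_of_isMulCommutative A)) hKY (fun a ha => (h ha).2.1) hy (fun a ha => by
      have h1 := (h ha).2.2 y hy
      have h2 : a * y * a⁻¹ ∈ Y := conj_mem_of_mem_normalizer (h ha).1 hy
      rwa [← hY _ (inv_mem hy) _ h2] at h1)
  rw [hfix, Subgroup.mem_bot] at hc
  rw [hc, mul_one] at hce
  simpa using inv_mem hce

/-- If `d` centralises `Y` and `A = ⟨c, d⟩`, the commutators `[y, c]` generate `Y`. -/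
theorem le_closure_dispSet [IsMulCommutative A] (hA : Nat.card A = p ^ 2) {Y : Subgroup Γ}
    (hY : ∀ x ∈ Y, ∀ y ∈ Y, x * y = y * x) (hcop : (Nat.card A).Coprime (Nat.card Y))
    (hfix : Y ⊓ Subgroup.centralizer (A : Set Γ) = ⊥) (hAY : A ≤ Subgroup.normalizer (Y : Set Γ))
    {c d : Γ} (hc : c ∈ A) (hd : d ∈ A) (hd1 : d ≠ 1) (hcd : c ∉ Subgroup.zpowers d)
    (hdY : ∀ y ∈ Y, d * y = y * d) : Y ≤ Subgroup.closure (dispSet Y c) := by
  set K := Subgroup.closure (dispSet Y c) with hK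
  have hKY : K ≤ Y := (Subgroup.closure_le _).2 (dispSet_subset (hAY hc))
  have hAK : A ≤ Subgroup.normalizer (K : Set Γ) := by
    intro g hg
    refine mem_normalizer_of_forall fun k hk => ?_
    have hle : K ≤ K.comap (MulAut.conj g).toMonoidHom := by
      rw [hK, Subgroup.closure_le]
      rintro _ ⟨y, hy, rfl⟩
      have hgc : g * c * g⁻¹ = c := by
        rw [show g * c = c * g from congrArg Subtype.val
          (IsMulCommutative.is_comm.comm (⟨g, hg⟩ : A) ⟨c, hc⟩), mul_inv_cancel_right]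
      show MulAut.conj g ⁅y, c⁆ ∈ K
      refine Subgroup.subset_closure ⟨g * y * g⁻¹, conj_mem_of_mem_normalizer (hAY hg) hy, ?_⟩
      show ⁅g * y * g⁻¹, c⁆ = _
      rw [map_commutatorElement, MulAut.conj_apply, MulAut.conj_apply, hgc]
    simpa using hle hk
  refine le_of_le_fixMod hY hcop hfix hKY (le_of_two_mem hA hd hc hd1 hcd ?_ ?_)
  · refine mem_fixMod.2 ⟨hAY hd, hAK hd, fun y hy => ?_⟩
    rw [hdY y hy, mul_inv_cancel_right, mul_inv_cancel]
    exact one_mem K
  · exact mem_fixMod_of_dispSet (hAY hc) hKY Subgroup.subset_closure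

/-- The minimal case of Ward's lemma: `W` abelian without proper invariant subgroups, `Q` faithful. -/
theorem ward_irreducible [IsMulCommutative A] (hA : Nat.card A = p ^ 2)
    (hexp : ∀ a ∈ A, a ^ p = 1) {W Q R : Subgroup Γ} {q r : ℕ} [Fact q.Prime] [Fact r.Prime]
    (hQ : IsPGroup q Q) (hR : IsPGroup r R) (hqr : q ≠ r) [IsMulCommutative W] (hW0 : W ≠ ⊥)
    (hAW : A ≤ Subgroup.normalizer (W : Set Γ)) (hAQ : A ≤ Subgroup.normalizer (Q : Set Γ))
    (hAR : A ≤ Subgroup.normalizer (R : Set Γ)) (hQW : Q ≤ Subgroup.normalizer (W : Set Γ))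
    (hRW : R ≤ Subgroup.normalizer (W : Set Γ)) (hRQ : R ≤ Subgroup.normalizer (Q : Set Γ))
    (hcW : (Nat.card Q).Coprime (Nat.card W))
    (hpQ : (Nat.card A).Coprime (Nat.card Q)) (hpR : (Nat.card A).Coprime (Nat.card R))
    (hfW : W ⊓ Subgroup.centralizer (A : Set Γ) = ⊥)
    (hfQ : Q ⊓ Subgroup.centralizer (A : Set Γ) = ⊥)
    (hfR : R ⊓ Subgroup.centralizer (A : Set Γ) = ⊥)
    (hfaith : Q ⊓ Subgroup.centralizer (W : Set Γ) = ⊥)
    (hirr : ∀ V : Subgroup Γ, V ≤ W → A ≤ Subgroup.normalizer (V : Set Γ) →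
      Q ≤ Subgroup.normalizer (V : Set Γ) → R ≤ Subgroup.normalizer (V : Set Γ) → V = ⊥ ∨ V = W) :
    R ≤ Subgroup.centralizer (Q : Set Γ) := by
  classical
  have hp : p.Prime := Fact.out
  have hcommA : ∀ a ∈ A, ∀ b ∈ A, a * b = b * a := fun a ha b hb =>
    congrArg Subtype.val (IsMulCommutative.is_comm.comm (⟨a, ha⟩ : A) ⟨b, hb⟩)
  have hWc : ∀ V : Subgroup Γ, V ≤ Q → V ≤ Subgroup.centralizer (W : Set Γ) → V = ⊥ := fun V h1 h2 =>
    le_bot_iff.1 (hfaith ▸ le_inf h1 h2)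
  by_cases hQ0 : Q = ⊥
  · intro x _
    rw [hQ0, Subgroup.mem_centralizer_iff]
    intro y hy
    rw [SetLike.mem_coe, Subgroup.mem_bot] at hy
    rw [hy, one_mul, mul_one]
  haveI : Nontrivial Q := (Subgroup.nontrivial_iff_ne_bot Q).2 hQ0
  -- the centre of `Q`
  set Z := (Subgroup.center Q).map Q.subtype with hZ
  have hZQ : Z ≤ Q := Subgroup.map_subtype_le _
  have hZmem : ∀ z, z ∈ Z ↔ z ∈ Q ∧ ∀ x ∈ Q, x * z = z * x := by
    intro z
    constructor
    · rintro ⟨w, hw, rfl⟩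
      exact ⟨w.2, fun x hx => congrArg Subtype.val (Subgroup.mem_center_iff.1 hw ⟨x, hx⟩)⟩
    · rintro ⟨hz, h⟩
      exact ⟨⟨z, hz⟩, Subgroup.mem_center_iff.2 fun x => Subtype.ext (h x x.2), rfl⟩
  have hZcomm : ∀ x ∈ Z, ∀ y ∈ Z, x * y = y * x := fun x hx y hy =>
    ((hZmem y).1 hy).2 x (hZQ hx)
  have hZnorm : Subgroup.normalizer (Q : Set Γ) ≤ Subgroup.normalizer (Z : Set Γ) := by
    intro g hg
    refine mem_normalizer_of_forall fun z hz => (hZmem _).2
      ⟨conj_mem_of_mem_normalizer hg (hZQ hz), fun x hx => ?_⟩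
    have h := ((hZmem z).1 hz).2 _ (conj_mem_of_mem_normalizer (inv_mem hg) hx)
    calc x * (g * z * g⁻¹) = g * (g⁻¹ * x * g⁻¹⁻¹ * z) * g⁻¹ := by group
      _ = g * (z * (g⁻¹ * x * g⁻¹⁻¹)) * g⁻¹ := by rw [h]
      _ = g * z * g⁻¹ * x := by group
  have hQZ : Q ≤ Subgroup.centralizer (Z : Set Γ) := fun x hx =>
    Subgroup.mem_centralizer_iff.2 fun z hz => (((hZmem z).1 hz).2 x hx).symm
  have hAZ : A ≤ Subgroup.normalizer (Z : Set Γ) := hAQ.trans hZnorm
  have hRZ : R ≤ Subgroup.normalizer (Z : Set Γ) := hRQ.trans hZnorm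
  have hpZ : (Nat.card A).Coprime (Nat.card Z) := hpQ.coprime_dvd_right (Subgroup.card_dvd_of_le hZQ)
  have hfZ : Z ⊓ Subgroup.centralizer (A : Set Γ) = ⊥ :=
    le_bot_iff.1 (hfQ ▸ inf_le_inf_right _ hZQ)
  have hZW : Z ≤ Subgroup.normalizer (W : Set Γ) := hZQ.trans hQW
  have hZ0 : Z ≠ ⊥ := by
    rw [hZ, Ne, Subgroup.map_eq_bot_iff_of_injective _ Q.subtype_injective]
    haveI := hQ.center_nontrivial
    exact (Subgroup.nontrivial_iff_ne_bot _).1 inferInstance
  -- centralisers in `W` of invariant subsets of `Z` are invariant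
  have hinv : ∀ (g : Γ) (S : Subgroup Γ), g ∈ Subgroup.normalizer (W : Set Γ) →
      g ∈ Subgroup.normalizer (S : Set Γ) →
      g ∈ Subgroup.normalizer ((W ⊓ Subgroup.centralizer (S : Set Γ) : Subgroup Γ) : Set Γ) :=
    fun g S h1 h2 => by
      have := H20.le_normalizer_inf (A := Subgroup.zpowers g) (Subgroup.zpowers_le.2 h1)
        (H20.le_normalizer_centralizer (Subgroup.zpowers_le.2 h2))
      exact this (Subgroup.mem_zpowers g)
  have hinvQ : ∀ (S : Subgroup Γ), S ≤ Z →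
      Q ≤ Subgroup.normalizer ((W ⊓ Subgroup.centralizer (S : Set Γ) : Subgroup Γ) : Set Γ) := by
    intro S hS x hx
    refine hinv x S (hQW hx) (Subgroup.centralizer_le_normalizer _ ?_)
    exact Subgroup.centralizer_le (SetLike.coe_subset_coe.2 hS) (hQZ hx)
  have hCZ : W ⊓ Subgroup.centralizer (Z : Set Γ) = ⊥ := by
    rcases hirr _ inf_le_left (fun a ha => hinv a Z (hAW ha) (hAZ ha)) (hinvQ Z le_rfl)
      (fun a ha => hinv a Z (hRW ha) (hRZ ha)) with h | h
    · exact h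
    · refine absurd (hWc Z hZQ fun z hz => Subgroup.mem_centralizer_iff.2 fun w hw => ?_) hZ0
      have hw' : w ∈ W ⊓ Subgroup.centralizer (Z : Set Γ) := by rw [h]; exact hw
      exact (Subgroup.mem_centralizer_iff.1 hw'.2 z hz).symm
  -- maximal subgroups of `Z` with a fixed point in `W`
  let Max : Subgroup Γ → Prop := fun K => K ≤ Z ∧ W ⊓ Subgroup.centralizer (K : Set Γ) ≠ ⊥ ∧
    ∀ L : Subgroup Γ, L ≤ Z → K ≤ L → W ⊓ Subgroup.centralizer (L : Set Γ) ≠ ⊥ → L = K
  have hMaxConj : ∀ (g : Γ) (K : Subgroup Γ), g ∈ Subgroup.normalizer (W : Set Γ) →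
      g ∈ Subgroup.normalizer (Z : Set Γ) → Max K → Max (MulAut.conj g • K) := by
    have hle : ∀ (g : Γ), g ∈ Subgroup.normalizer (Z : Set Γ) → ∀ K, K ≤ Z →
        MulAut.conj g • K ≤ Z := fun g hg K hK x hx => by
      rw [H20.mem_conj_smul] at hx
      have := conj_mem_of_mem_normalizer hg (hK hx)
      simpa [mul_assoc] using this
    have hne : ∀ (g : Γ), g ∈ Subgroup.normalizer (W : Set Γ) → ∀ K : Subgroup Γ,
        W ⊓ Subgroup.centralizer (K : Set Γ) ≠ ⊥ →
        W ⊓ Subgroup.centralizer ((MulAut.conj g • K : Subgroup Γ) : Set Γ) ≠ ⊥ := by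
      intro g hg K hK
      haveI := (Subgroup.nontrivial_iff_ne_bot _).2 hK
      obtain ⟨⟨v, hvW, hvC⟩, hv⟩ := exists_ne
        (1 : (W ⊓ Subgroup.centralizer (K : Set Γ) : Subgroup Γ))
      intro hbot
      have hmem : g * v * g⁻¹ ∈
          W ⊓ Subgroup.centralizer ((MulAut.conj g • K : Subgroup Γ) : Set Γ) := by
        refine ⟨conj_mem_of_mem_normalizer hg hvW, Subgroup.mem_centralizer_iff.2 fun x hx => ?_⟩
        rw [SetLike.mem_coe, H20.mem_conj_smul] at hx
        have := Subgroup.mem_centralizer_iff.1 hvC _ hx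
        calc x * (g * v * g⁻¹) = g * (g⁻¹ * x * g * v) * g⁻¹ := by group
          _ = g * (v * (g⁻¹ * x * g)) * g⁻¹ := by rw [this]
          _ = g * v * g⁻¹ * x := by group
      rw [hbot, Subgroup.mem_bot, conj_eq_one_iff] at hmem
      exact hv (Subtype.ext hmem)
    rintro g K hgW hgZ ⟨h1, h2, h3⟩
    refine ⟨hle g hgZ K h1, hne g hgW K h2, fun L hL hKL hLne => ?_⟩
    have h := h3 (MulAut.conj g⁻¹ • L) (hle g⁻¹ (inv_mem hgZ) L hL) ?_
      (hne g⁻¹ (inv_mem hgW) L hLne)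
    · rw [← h, ← mul_smul, ← map_mul, mul_inv_cancel, map_one, one_smul]
    · intro x hx
      rw [H20.mem_conj_smul, inv_inv]
      apply hKL
      rw [H20.mem_conj_smul]
      simpa [mul_assoc] using hx
  -- each has a line
  have hline : ∀ K, Max K → ∃ c ∈ A, c ≠ 1 ∧ c ∈ fixMod Z K := by
    rintro K ⟨hKZ, hKne, hKmax⟩
    let V := W ⊓ Subgroup.centralizer (K : Set Γ)
    let φ := W.normalizerMonoidHom
    by_contra hno
    push Not at hno
    have hall : ∀ c ∈ A, c ≠ 1 →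
        V ⊓ Subgroup.centralizer (dispSet Z c) = ⊥ := by
      intro c hc hc1
      by_contra h
      refine hno c hc hc1 (mem_fixMod_of_dispSet (hAZ hc) hKZ ?_)
      set L := K ⊔ Subgroup.closure (dispSet Z c) with hL
      have hLZ : L ≤ Z := sup_le hKZ ((Subgroup.closure_le _).2 (dispSet_subset (hAZ hc)))
      have hLK : L = K := by
        refine hKmax L hLZ le_sup_left fun hb => h ?_
        rw [eq_bot_iff, ← hb]
        rintro v ⟨⟨hvW, hvK⟩, hvc⟩
        refine ⟨hvW, ?_⟩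
        show v ∈ Subgroup.centralizer (L : Set Γ)
        rw [← Subgroup.zpowers_le, Subgroup.le_centralizer_iff]
        refine sup_le ?_ ((Subgroup.closure_le _).2 ?_) <;> intro x hx
        · rw [Subgroup.mem_centralizer_iff]
          rintro w ⟨i, rfl⟩
          exact ((Commute.zpow_right (Subgroup.mem_centralizer_iff.1 hvK x hx) i).eq).symm
        · rw [SetLike.mem_coe, Subgroup.mem_centralizer_iff]
          rintro w ⟨i, rfl⟩
          exact ((Commute.zpow_right (Subgroup.mem_centralizer_iff.1 hvc x hx) i).eq).symm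
      intro x hx
      rw [SetLike.mem_coe, ← hLK]
      exact le_sup_right (a := K) (Subgroup.subset_closure hx)
    -- averaging over `K` kills `W`
    letI : CommGroup W :=
      { (inferInstance : Group W) with mul_comm := fun a b => IsMulCommutative.is_comm.comm a b }
    haveI := Fintype.ofFinite K
    let iK : K → ↥(Subgroup.normalizer (W : Set Γ)) := fun k => ⟨k, hZW (hKZ k.2)⟩
    let N : W →* W :=
      { toFun := fun w => ∏ k : K, φ (iK k) w
        map_one' := Finset.prod_eq_one fun k _ => map_one _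
        map_mul' := fun u v => by simp only [map_mul, Finset.prod_mul_distrib] }
    have hle : W ≤ N.ker.map W.subtype := by
      refine (le_iSup_centralizer_dispSet (B := Z) hAZ hAW hZW hZcomm
        (hcW.coprime_dvd_left (Subgroup.card_dvd_of_le hZQ)) hfW).trans (iSup₂_le fun c hc => ?_)
      rintro w ⟨hwW, hwC⟩
      refine ⟨⟨w, hwW⟩, ?_, rfl⟩
      rw [SetLike.mem_coe, MonoidHom.mem_ker]
      apply Subtype.ext
      rw [OneMemClass.coe_one, ← Subgroup.mem_bot, ← hall c hc.1 hc.2]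
      refine Subgroup.mem_inf.2 ⟨Subgroup.mem_inf.2 ⟨SetLike.coe_mem _, ?_⟩, ?_⟩
      · rw [Subgroup.mem_centralizer_iff]
        intro x hx
        have h1 : φ (iK ⟨x, hx⟩) (N ⟨w, hwW⟩) = N ⟨w, hwW⟩ := by
          show φ (iK ⟨x, hx⟩) (∏ k : K, φ (iK k) ⟨w, hwW⟩) = ∏ k : K, φ (iK k) ⟨w, hwW⟩
          rw [map_prod]
          refine Fintype.prod_equiv (Equiv.mulLeft (⟨x, hx⟩ : K)) _ _ fun k => ?_
          rw [← MulAut.mul_apply, ← map_mul]
          rfl
        exact mul_inv_eq_iff_eq_mul.1 (congrArg Subtype.val h1)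
      · have hpres : ∀ k ∈ (Finset.univ : Finset K), φ (iK k) ⟨w, hwW⟩ ∈
            (Subgroup.centralizer (dispSet Z c)).comap W.subtype := by
          intro k _
          rw [Subgroup.mem_comap, Subgroup.mem_centralizer_iff]
          intro x hx
          have h1 := Subgroup.mem_centralizer_iff.1 hwC x hx
          have h2 := hZcomm x (dispSet_subset (hAZ hc.1) hx) k (hKZ k.2)
          show x * ((k : Γ) * w * (k : Γ)⁻¹) = (k : Γ) * w * (k : Γ)⁻¹ * x
          have h3 : (k : Γ)⁻¹ * x = x * (k : Γ)⁻¹ := (Commute.inv_left (Commute.symm h2)).eq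
          calc x * ((k : Γ) * w * (k : Γ)⁻¹) = x * (k : Γ) * w * (k : Γ)⁻¹ := by group
            _ = (k : Γ) * (x * w) * (k : Γ)⁻¹ := by rw [h2]; group
            _ = (k : Γ) * w * (x * (k : Γ)⁻¹) := by rw [h1]; group
            _ = (k : Γ) * w * (k : Γ)⁻¹ * x := by rw [← h3]; group
        exact prod_mem hpres
    apply hKne
    rw [eq_bot_iff]
    rintro v ⟨hvW, hvK⟩
    obtain ⟨⟨v', hv'⟩, hker, rfl⟩ := hle hvW
    rw [SetLike.mem_coe, MonoidHom.mem_ker] at hker
    have hfixall : ∀ k : K, φ (iK k) (⟨v', hv'⟩ : W) = ⟨v', hv'⟩ := by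
      intro k
      apply Subtype.ext
      show (k : Γ) * v' * (k : Γ)⁻¹ = v'
      have h : (k : Γ) * v' = v' * k := Subgroup.mem_centralizer_iff.1 hvK k k.2
      rw [h, mul_inv_cancel_right]
    have hpow : (⟨v', hv'⟩ : W) ^ Nat.card K = 1 := by
      rw [← hker]
      show _ = ∏ k : K, φ (iK k) (⟨v', hv'⟩ : W)
      rw [Finset.prod_congr rfl fun k _ => hfixall k]
      simp [Nat.card_eq_fintype_card]
    rw [Subgroup.mem_bot]
    have hco : (Nat.card K).Coprime (Nat.card W) :=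
      hcW.coprime_dvd_left (Subgroup.card_dvd_of_le (hKZ.trans hZQ))
    show ((⟨v', hv'⟩ : W) : Γ) = 1
    rw [← orderOf_eq_one_iff, Subgroup.orderOf_coe]
    exact Nat.eq_one_of_dvd_coprimes hco (orderOf_dvd_of_pow_eq_one hpow) (orderOf_dvd_natCard _)
  -- some `[Z, a]` has fixed points; take a maximal subgroup above it
  obtain ⟨a₁, ha₁, hE⟩ : ∃ a ∈ A, a ≠ 1 ∧
      W ⊓ Subgroup.centralizer (dispSet Z a) ≠ ⊥ := by
    by_contra hno
    push Not at hno
    apply hW0
    rw [eq_bot_iff]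
    refine (le_iSup_centralizer_dispSet (B := Z) hAZ hAW hZW hZcomm
      (hcW.coprime_dvd_left (Subgroup.card_dvd_of_le hZQ)) hfW).trans (iSup₂_le fun c hc => ?_)
    exact (hno c hc.1 hc.2).le
  obtain ⟨ha₁1, hE⟩ := hE
  obtain ⟨K₁, hK₁le, hK₁⟩ : ∃ K, Subgroup.closure (dispSet Z a₁) ≤ K ∧ Max K := by
    have hfin : {K : Subgroup Γ | Subgroup.closure (dispSet Z a₁) ≤ K ∧ K ≤ Z ∧
        W ⊓ Subgroup.centralizer (K : Set Γ) ≠ ⊥}.Finite := Set.toFinite _
    have hne : {K : Subgroup Γ | Subgroup.closure (dispSet Z a₁) ≤ K ∧ K ≤ Z ∧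
        W ⊓ Subgroup.centralizer (K : Set Γ) ≠ ⊥}.Nonempty :=
      ⟨_, le_rfl, (Subgroup.closure_le _).2 (dispSet_subset (hAZ ha₁)),
        by rwa [Subgroup.centralizer_closure]⟩
    obtain ⟨K, ⟨h1, h2, h3⟩, hmax⟩ := hfin.exists_maximal hne
    exact ⟨K, h1, h2, h3, fun L hL hKL hLne =>
      le_antisymm (hmax ⟨h1.trans hKL, hL, hLne⟩ hKL) hKL⟩
  -- any two lines of conjugates of `K₁` agree
  have hlineUnique : ∀ K, Max K → ∀ c ∈ A, ∀ d ∈ A, c ≠ 1 → c ∈ fixMod Z K → d ∈ fixMod Z K →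
      d ∈ Subgroup.zpowers c := by
    intro K hK c hc d hd hc1 hcf hdf
    by_contra hdc
    refine hK.2.1 ?_
    rw [eq_bot_iff, ← hCZ]
    refine inf_le_inf_left _ (Subgroup.centralizer_le (SetLike.coe_subset_coe.2 ?_))
    exact le_of_le_fixMod hZcomm hpZ hfZ hK.1 (le_of_two_mem hA hc hd hc1 hdc hcf hdf)
  have hpow : ∀ c ∈ A, c ≠ 1 → ∀ d ∈ A, d ∈ Subgroup.zpowers c → d ≠ 1 →
      c ∈ Subgroup.zpowers d := by
    intro c hc hc1 d _ hdc hd1
    have hco : orderOf c = p := orderOf_eq_prime (hexp c hc) hc1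
    have hle : Subgroup.zpowers d ≤ Subgroup.zpowers c := Subgroup.zpowers_le.2 hdc
    have hdvd : orderOf d ∣ p := by
      rw [← Nat.card_zpowers, ← hco, ← Nat.card_zpowers c]; exact Subgroup.card_dvd_of_le hle
    have heq : Subgroup.zpowers d = Subgroup.zpowers c := by
      refine Subgroup.eq_of_le_of_card_ge hle ?_
      rw [Nat.card_zpowers, Nat.card_zpowers, hco]
      rcases (Nat.dvd_prime hp).1 hdvd with h | h
      · exact absurd (orderOf_eq_one_iff.1 h) hd1
      · exact h.ge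
    rw [heq]
    exact Subgroup.mem_zpowers c
  obtain ⟨a, ha, ha1, haK⟩ := hline K₁ hK₁
  have hrline : ∀ s ∈ R, a ∈ fixMod Z (MulAut.conj s • K₁) := by
    intro s hs
    obtain ⟨b, hb, hb1, hbK⟩ := hline _ (hMaxConj s K₁ (hRW hs) (hRZ hs) hK₁)
    by_cases hba : b ∈ Subgroup.zpowers a
    · exact (Subgroup.zpowers_le.2 hbK) (hpow a ha ha1 b hb hba hb1)
    exfalso
    -- a point of the orbit fixed by `A`
    letI actS : MulAction Γ (Subgroup Γ) := MulAction.compHom _ (MulAut.conj (G := Γ))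
    have hsmul : ∀ (g : Γ) (L : Subgroup Γ), g • L = MulAut.conj g • L := fun g L => rfl
    set Y : Set (Subgroup Γ) := {L | ∃ u ∈ R, L = MulAut.conj u • K₁} with hY
    have hgen : ∀ g ∈ A, ∀ u ∈ R, g ∈ Subgroup.normalizer
        ((MulAut.conj u • K₁ : Subgroup Γ) : Set Γ) →
        ∀ L ∈ Y, MulAut.conj g • L ∈ Y := by
      rintro g hg u hu hgn _ ⟨v, hv, rfl⟩
      refine ⟨g * (v * u⁻¹) * g⁻¹ * u,
        mul_mem (conj_mem_of_mem_normalizer (hAR hg) (mul_mem hv (inv_mem hu))) hu, ?_⟩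
      rw [map_mul (MulAut.conj (G := Γ)) (g * (v * u⁻¹) * g⁻¹) u, mul_smul,
        ← H20.conj_smul_eq_of_mem_normalizer hgn, ← mul_smul, ← mul_smul, ← mul_smul, ← map_mul,
        ← map_mul, ← map_mul]
      congr 2
      group
    have haY := hgen a ha 1 (one_mem R) (by rw [map_one, one_smul]; exact haK.2.1)
    have hbY := hgen b hb s hs hbK.2.1
    have hYfin : Y.Finite := Set.toFinite Y
    have hAY : ∀ g ∈ A, ∀ L ∈ Y, g • L ∈ Y := by
      intro g hg
      have hle : A ≤ MulAction.stabilizer Γ Y := by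
        refine le_of_two_mem hA ha hb ha1 hba ?_ ?_ <;>
          rw [MulAction.mem_stabilizer_iff] <;>
          refine Set.eq_of_subset_of_ncard_le ?_ ?_ hYfin
        · rintro _ ⟨L, hL, rfl⟩; exact haY L hL
        · exact le_of_eq (Set.ncard_image_of_injective Y (MulAction.injective a)).symm
        · rintro _ ⟨L, hL, rfl⟩; exact hbY L hL
        · exact le_of_eq (Set.ncard_image_of_injective Y (MulAction.injective b)).symm
      intro L hL
      have h := MulAction.mem_stabilizer_iff.1 (hle hg)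
      rw [← h]
      exact Set.smul_mem_smul_set hL
    obtain ⟨L₀, ⟨u₀, hu₀, hL₀⟩, hL₀fix⟩ := H20.exists_fixed_point hAR hpR
      (Or.inl (H20.isSolvable_of_isMulCommutative A)) Y ⟨K₁, 1, one_mem R, by simp⟩ hAY
      (by
        rintro k hk _ ⟨v, hv, rfl⟩
        exact ⟨k * v, mul_mem hk hv, by rw [hsmul, ← mul_smul, ← map_mul]⟩)
      (by
        rintro _ ⟨v, hv, rfl⟩ _ ⟨w, hw, rfl⟩
        exact ⟨w * v⁻¹, mul_mem hw (inv_mem hv),
          by rw [hsmul, ← mul_smul, ← map_mul, inv_mul_cancel_right]⟩)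
    have hMax₀ : Max L₀ := hL₀ ▸ hMaxConj u₀ K₁ (hRW hu₀) (hRZ hu₀) hK₁
    obtain ⟨c, hc, hc1, hcL⟩ := hline L₀ hMax₀
    have hin : ∀ u ∈ R, ∀ m ∈ A, m ∈ fixMod Z (MulAut.conj u • K₁) → m ∈ fixMod Z L₀ := by
      intro u hu m hm hmf
      set t := u₀ * u⁻¹ with ht
      have htR : t ∈ R := mul_mem hu₀ (inv_mem hu)
      have hn : t * m * t⁻¹ ∈ fixMod Z L₀ := by
        have h := conj_mem_fixMod (s := t) (hRZ htR) hmf
        rwa [← mul_smul, ← map_mul, ht, inv_mul_cancel_right, ← hL₀] at h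
      have hmN : m ∈ Subgroup.normalizer (L₀ : Set Γ) := by
        apply H20.mem_normalizer_of_conj_smul_eq
        rw [← hsmul]
        exact hL₀fix m hm
      set N := Subgroup.normalizer (Z : Set Γ) ⊓ Subgroup.normalizer (L₀ : Set Γ) with hN
      set M := (fixMod Z L₀).subgroupOf N with hM
      haveI : M.Normal := by
        constructor
        intro g hg x
        rw [hM, Subgroup.mem_subgroupOf] at hg ⊢
        have h := conj_mem_fixMod (s := (x : Γ)) x.2.1 hg
        rw [H20.conj_smul_eq_of_mem_normalizer x.2.2] at h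
        exact h
      set u' : Γ := t * m * t⁻¹ * m⁻¹ with hu'
      have hu'R : u' ∈ R := by
        have : m * t⁻¹ * m⁻¹ ∈ R := conj_mem_of_mem_normalizer (hAR hm) (inv_mem htR)
        have h := mul_mem htR this
        rw [hu']
        simpa [mul_assoc] using h
      have hu'N : u' ∈ N := mul_mem ⟨hn.1, hn.2.1⟩ (inv_mem ⟨hAZ hm, hmN⟩)
      have hum : (⟨u', hu'N⟩ : N) * ⟨m, hAZ hm, hmN⟩ ∈ M := by
        rw [hM, Subgroup.mem_subgroupOf]
        simpa [hu', mul_assoc] using hn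
      have heq : ((⟨m, hAZ hm, hmN⟩ : N) : N ⧸ M) = ((⟨u', hu'N⟩ : N) : N ⧸ M)⁻¹ := by
        rw [eq_inv_iff_mul_eq_one, ← QuotientGroup.mk_mul, QuotientGroup.eq_one_iff]
        have := (inferInstance : M.Normal).conj_mem _ hum ⟨m, hAZ hm, hmN⟩
        simpa [mul_assoc] using this
      have hm1 : ((⟨m, hAZ hm, hmN⟩ : N) : N ⧸ M) = 1 := by
        rw [← orderOf_eq_one_iff]
        refine Nat.eq_one_of_dvd_coprimes hpR ?_ ?_
        · exact (orderOf_map_dvd (QuotientGroup.mk' M) _).trans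
            ((orderOf_injective N.subtype N.subtype_injective _).symm.dvd.trans
              (Subgroup.orderOf_dvd_natCard A hm))
        · rw [heq, orderOf_inv]
          exact (orderOf_map_dvd (QuotientGroup.mk' M) _).trans
            ((orderOf_injective N.subtype N.subtype_injective _).symm.dvd.trans
              (Subgroup.orderOf_dvd_natCard R hu'R))
      rw [QuotientGroup.eq_one_iff, hM, Subgroup.mem_subgroupOf] at hm1
      exact hm1
    have h1 := hlineUnique L₀ hMax₀ a ha b hb ha1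
      (hin 1 (one_mem R) a ha (by rw [map_one, one_smul]; exact haK)) (hin s hs b hb hbK)
    exact hba h1
  -- hence `a` centralises `Z`
  have haZ : ∀ z ∈ Z, a * z = z * a := by
    set S : Set Γ := {x | ∃ s ∈ R, ∃ z ∈ Z, x = s * ⁅z, a⁆ * s⁻¹} with hS
    set T := Subgroup.closure S with hT
    have hSZ : T ≤ Z := by
      rw [hT, Subgroup.closure_le]
      rintro _ ⟨s, hs, z, hz, rfl⟩
      exact conj_mem_of_mem_normalizer (hRZ hs) (dispSet_subset (hAZ ha) ⟨z, hz, rfl⟩)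
    have hTK : T ≤ K₁ := by
      rw [hT, Subgroup.closure_le]
      rintro _ ⟨s, hs, z, hz, rfl⟩
      have h := (hrline s⁻¹ (inv_mem hs)).2.2 z hz
      rw [H20.mem_conj_smul] at h
      have h' := inv_mem h
      rw [SetLike.mem_coe]
      simpa [commutatorElement_def, mul_assoc] using h'
    have hTne : W ⊓ Subgroup.centralizer (T : Set Γ) ≠ ⊥ := fun h =>
      hK₁.2.1 (le_bot_iff.1 (h ▸ inf_le_inf_left _
        (Subgroup.centralizer_le (SetLike.coe_subset_coe.2 hTK))))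
    have hTinv : ∀ g, g ∈ Subgroup.normalizer (Z : Set Γ) → g ∈ Subgroup.normalizer (R : Set Γ) →
        g * a * g⁻¹ = a → g ∈ Subgroup.normalizer (T : Set Γ) := by
      intro g hgZ hgR hga
      refine mem_normalizer_of_forall fun x hx => ?_
      have hle : T ≤ T.comap (MulAut.conj g).toMonoidHom := by
        rw [hT, Subgroup.closure_le]
        rintro _ ⟨s, hs, z, hz, rfl⟩
        show MulAut.conj g _ ∈ T
        refine Subgroup.subset_closure ⟨g * s * g⁻¹, conj_mem_of_mem_normalizer hgR hs,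
          g * z * g⁻¹, conj_mem_of_mem_normalizer hgZ hz, ?_⟩
        rw [map_mul, map_mul, map_commutatorElement, map_inv]
        simp only [MulAut.conj_apply, hga]
      simpa using hle hx
    have hTR : R ≤ Subgroup.normalizer (T : Set Γ) := by
      intro g hg
      refine mem_normalizer_of_forall fun x hx => ?_
      have hle : T ≤ T.comap (MulAut.conj g).toMonoidHom := by
        rw [hT, Subgroup.closure_le]
        rintro _ ⟨s, hs, z, hz, rfl⟩
        show MulAut.conj g _ ∈ T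
        exact Subgroup.subset_closure ⟨g * s, mul_mem hg hs, z, hz, by simp [mul_assoc]⟩
      simpa using hle hx
    have hTA : A ≤ Subgroup.normalizer (T : Set Γ) := fun g hg =>
      hTinv g (hAZ hg) (hAR hg) (by rw [hcommA g hg a ha, mul_inv_cancel_right])
    rcases hirr _ inf_le_left (fun g hg => hinv g T (hAW hg) (hTA hg)) (hinvQ T hSZ)
      (fun g hg => hinv g T (hRW hg) (hTR hg)) with h | h
    · exact absurd h hTne
    · have hT0 : T = ⊥ := hWc T (hSZ.trans hZQ) fun t ht =>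
        Subgroup.mem_centralizer_iff.2 fun w hw => by
          have hw' : w ∈ W ⊓ Subgroup.centralizer (T : Set Γ) := by rw [h]; exact hw
          exact (Subgroup.mem_centralizer_iff.1 hw'.2 t ht).symm
      intro z hz
      have : ⁅z, a⁆ ∈ T := Subgroup.subset_closure ⟨1, one_mem R, z, hz, by simp⟩
      rw [hT0, Subgroup.mem_bot, commutatorElement_eq_one_iff_mul_comm] at this
      exact this.symm
  -- `C_Q(b) = 1` for `b ∉ ⟨a⟩`
  have hXbot : ∀ b ∈ A, b ∉ Subgroup.zpowers a → Q ⊓ Subgroup.centralizer {b} = ⊥ := by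
    intro b hb hba
    have hb1 : b ≠ 1 := fun h => hba (h ▸ one_mem _)
    have hab : a ∉ Subgroup.zpowers b := fun h => hba (hpow b hb hb1 a ha h ha1)
    set X := Q ⊓ Subgroup.centralizer {b} with hX
    by_contra hX0
    haveI := (Subgroup.nontrivial_iff_ne_bot X).2 hX0
    have hXp : IsPGroup q X := hQ.to_le inf_le_left
    haveI := hXp.center_nontrivial
    set U := (Subgroup.center X).map X.subtype with hU
    have hUX : U ≤ X := Subgroup.map_subtype_le _
    have hU0 : U ≠ ⊥ := by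
      rw [hU, Ne, Subgroup.map_eq_bot_iff_of_injective _ X.subtype_injective]
      exact (Subgroup.nontrivial_iff_ne_bot _).1 inferInstance
    have hUcomm : ∀ x ∈ U, ∀ y ∈ U, x * y = y * x := by
      rintro x hx _ ⟨w, hw, rfl⟩
      exact congrArg Subtype.val (Subgroup.mem_center_iff.1 hw ⟨x, hUX hx⟩)
    have hAX : A ≤ Subgroup.normalizer (X : Set Γ) := by
      intro g hg
      refine mem_normalizer_of_forall fun x hx =>
        Subgroup.mem_inf.2 ⟨conj_mem_of_mem_normalizer (hAQ hg) hx.1, ?_⟩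
      rw [Subgroup.mem_centralizer_singleton_iff]
      have hxb := Subgroup.mem_centralizer_singleton_iff.1 hx.2
      have hgb := hcommA g hg b hb
      calc g * x * g⁻¹ * b = g * x * (g⁻¹ * (b * g)) * g⁻¹ := by group
        _ = g * x * b * g⁻¹ := by rw [← hgb, inv_mul_cancel_left]
        _ = g * (b * x) * g⁻¹ := by rw [mul_assoc g x b, hxb]
        _ = b * (g * x * g⁻¹) := by rw [← mul_assoc g b x, hgb]; group
    have hAU : A ≤ Subgroup.normalizer (U : Set Γ) := by
      intro g hg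
      refine mem_normalizer_of_forall ?_
      rintro _ ⟨w, hw, rfl⟩
      refine ⟨⟨g * w * g⁻¹, conj_mem_of_mem_normalizer (hAX hg) w.2⟩,
        Subgroup.mem_center_iff.2 fun x => Subtype.ext ?_, rfl⟩
      have hx : g⁻¹ * x * g⁻¹⁻¹ ∈ X := conj_mem_of_mem_normalizer (hAX (inv_mem hg)) x.2
      have h := congrArg Subtype.val (Subgroup.mem_center_iff.1 hw ⟨_, hx⟩)
      simp only [Subgroup.coe_mul] at h ⊢
      calc (x : Γ) * (g * (w : Γ) * g⁻¹) = g * (g⁻¹ * x * g⁻¹⁻¹ * w) * g⁻¹ := by group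
        _ = g * ((w : Γ) * (g⁻¹ * x * g⁻¹⁻¹)) * g⁻¹ := by rw [h]
        _ = g * (w : Γ) * g⁻¹ * x := by group
    have hUQ : U ≤ Q := hUX.trans inf_le_left
    have hUb : ∀ y ∈ U, b * y = y * b := fun y hy =>
      (Subgroup.mem_centralizer_singleton_iff.1 (hUX hy).2).symm
    have hBn : ∀ g ∈ A, g ∈ Subgroup.normalizer ((Z ⊔ U : Subgroup Γ) : Set Γ) := by
      intro g hg
      refine mem_normalizer_of_forall fun x hx => ?_
      have hle : Z ⊔ U ≤ (Z ⊔ U).comap (MulAut.conj g).toMonoidHom := sup_le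
        (fun y hy => le_sup_left (b := U) (conj_mem_of_mem_normalizer (hAZ hg) hy))
        (fun y hy => le_sup_right (a := Z) (conj_mem_of_mem_normalizer (hAU hg) hy))
      simpa using hle hx
    have hBcomm : ∀ x ∈ Z ⊔ U, ∀ y ∈ Z ⊔ U, x * y = y * x := by
      have hle : Z ⊔ U ≤ Subgroup.centralizer ((Z ⊔ U : Subgroup Γ) : Set Γ) := by
        refine sup_le ?_ ?_ <;> rw [Subgroup.le_centralizer_iff] <;> refine sup_le ?_ ?_ <;>
          intro x hx <;> rw [Subgroup.mem_centralizer_iff] <;> intro y hy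
        · exact hZcomm y hy x hx
        · exact (((hZmem y).1 hy).2 x (hUQ hx)).symm
        · exact ((hZmem x).1 hx).2 y (hUQ hy)
        · exact hUcomm y hy x hx
      exact fun x hx y hy => (Subgroup.mem_centralizer_iff.1 (hle hx) y hy).symm
    apply hU0
    refine hWc U hUQ ?_
    rw [Subgroup.le_centralizer_iff]
    refine (le_iSup_centralizer_dispSet (B := Z ⊔ U) hBn hAW (sup_le hZW (hUQ.trans hQW)) hBcomm
      (hcW.coprime_dvd_left (Subgroup.card_dvd_of_le (sup_le hZQ hUQ))) hfW).trans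
      (iSup₂_le fun c hc => ?_)
    have hmono : ∀ V : Subgroup Γ, V ≤ Z ⊔ U → V ≤ Subgroup.closure (dispSet V c) →
        W ⊓ Subgroup.centralizer (dispSet (Z ⊔ U) c) ≤ W ⊓ Subgroup.centralizer (V : Set Γ) := by
      intro V hV hVgen
      refine inf_le_inf_left _ ?_
      refine (Subgroup.centralizer_le (Set.image_mono (SetLike.coe_subset_coe.2 hV))).trans ?_
      rw [← Subgroup.centralizer_closure]
      exact Subgroup.centralizer_le (SetLike.coe_subset_coe.2 hVgen)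
    by_cases hca : c ∈ Subgroup.zpowers a
    · refine (hmono U le_sup_right ?_).trans inf_le_right
      refine le_closure_dispSet hA hUcomm (hpQ.coprime_dvd_right (Subgroup.card_dvd_of_le hUQ))
        (le_bot_iff.1 (hfQ ▸ inf_le_inf_right _ hUQ)) hAU hc.1 hb hb1 ?_ hUb
      intro h
      have hac : a ∈ Subgroup.zpowers c := hpow a ha ha1 c hc.1 hca hc.2
      exact hab ((Subgroup.zpowers_le.2 h) hac)
    · refine (hmono Z le_sup_left
        (le_closure_dispSet hA hZcomm hpZ hfZ hAZ hc.1 ha ha1 hca haZ)).trans ?_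
      rw [hCZ]
      exact bot_le
  have hncyc : ¬ IsCyclic A := by
    intro h
    obtain ⟨g, hg⟩ := h.exists_generator
    have hord : orderOf g = p ^ 2 := by rw [orderOf_eq_card_of_forall_mem_zpowers hg, hA]
    have h1 : orderOf g ∣ p := orderOf_dvd_of_pow_eq_one (Subtype.ext (hexp g g.2))
    rw [hord] at h1
    have := Nat.le_of_dvd hp.pos h1
    nlinarith [hp.two_le]
  -- `a` centralises `Q`
  have haQ : ∀ x ∈ Q, a * x = x * a := by
    have hle : Q ≤ Subgroup.centralizer {a} := by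
      refine H20.le_of_centralizers_le hncyc hAQ hpQ fun c hc hc1 => ?_
      by_cases hca : c ∈ Subgroup.zpowers a
      · intro x hx
        rw [Subgroup.mem_centralizer_singleton_iff]
        obtain ⟨i, hi⟩ := Subgroup.mem_zpowers_iff.1 (hpow a ha ha1 c hc hca hc1)
        rw [← hi]
        exact (Commute.zpow_right (Subgroup.mem_centralizer_singleton_iff.1 hx.2) i).eq
      · rw [hXbot c hc hca]; exact bot_le
    exact fun x hx => (Subgroup.mem_centralizer_singleton_iff.1 (hle hx)).symm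
  -- `R` centralises `Q`
  refine H20.le_of_centralizers_le hncyc hAR hpR fun c hc hc1 => ?_
  by_cases hca : c ∈ Subgroup.zpowers a
  · -- `R₀ Q` lies in `C(a)` and has a fixed-point-free automorphism of order `p`
    obtain ⟨b, hb, hba⟩ : ∃ b ∈ A, b ∉ Subgroup.zpowers a := by
      by_contra hno
      push Not at hno
      apply hncyc
      have heq : Subgroup.zpowers a = A := le_antisymm (Subgroup.zpowers_le.2 ha) hno
      rw [← heq]
      infer_instance
    set R₀ := R ⊓ Subgroup.centralizer {c} with hR₀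
    have hR₀a : ∀ x ∈ R₀, a * x = x * a := by
      intro x hx
      obtain ⟨i, hi⟩ := Subgroup.mem_zpowers_iff.1 (hpow a ha ha1 c hc hca hc1)
      rw [← hi]
      exact ((Commute.zpow_right (Subgroup.mem_centralizer_singleton_iff.1 hx.2) i).eq).symm
    have hR₀Q : R₀ ≤ Subgroup.normalizer (Q : Set Γ) := inf_le_left.trans hRQ
    set X := R₀ ⊔ Q with hXdef
    have hXmem : ∀ x ∈ X, ∃ u ∈ R₀, ∃ v ∈ Q, u * v = x := by
      intro x hx
      rw [← SetLike.mem_coe, hXdef,
        Subgroup.coe_mul_of_left_le_normalizer_right _ _ hR₀Q] at hx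
      exact hx
    have hbR₀ : ∀ x ∈ R₀, b * x * b⁻¹ ∈ R₀ := by
      intro x hx
      refine Subgroup.mem_inf.2 ⟨conj_mem_of_mem_normalizer (hAR hb) hx.1, ?_⟩
      rw [Subgroup.mem_centralizer_singleton_iff]
      have hxc := Subgroup.mem_centralizer_singleton_iff.1 hx.2
      calc b * x * b⁻¹ * c = b * x * (b⁻¹ * (c * b)) * b⁻¹ := by group
        _ = b * x * c * b⁻¹ := by rw [hcommA c hc b hb, inv_mul_cancel_left]
        _ = b * (c * x) * b⁻¹ := by rw [mul_assoc b x c, hxc]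
        _ = c * (b * x * b⁻¹) := by rw [← mul_assoc b c x, hcommA b hb c hc]; group
    have hbX : ∀ x ∈ X, b * x * b⁻¹ ∈ X := by
      intro x hx
      obtain ⟨u, hu, v, hv, rfl⟩ := hXmem x hx
      rw [show b * (u * v) * b⁻¹ = (b * u * b⁻¹) * (b * v * b⁻¹) by group]
      exact mul_mem (le_sup_left (b := Q) (hbR₀ u hu))
        (le_sup_right (a := R₀) (conj_mem_of_mem_normalizer (hAQ hb) hv))
    have hbXn : b ∈ Subgroup.normalizer (X : Set Γ) := mem_normalizer_of_forall hbX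
    have hAc : ∀ u : Γ, a * u = u * a → b * u = u * b →
        u ∈ Subgroup.centralizer (A : Set Γ) := by
      intro u hau hbu
      rw [← Subgroup.zpowers_le, Subgroup.le_centralizer_iff]
      refine le_of_two_mem hA ha hb ha1 hba ?_ ?_ <;>
        rw [Subgroup.mem_centralizer_iff] <;> rintro _ ⟨i, rfl⟩
      · exact (Commute.zpow_right hau i).eq.symm
      · exact (Commute.zpow_right hbu i).eq.symm
    let φ : MulAut X := X.normalizerMonoidHom ⟨b, hbXn⟩
    have hnil : Group.IsNilpotent X := by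
      refine H21.isNilpotent_of_fpf (φ := (φ : X ≃* X)) ?_ hp ?_
      · intro x hx
        have hx' : b * (x : Γ) * b⁻¹ = x := congrArg Subtype.val hx
        obtain ⟨u, hu, v, hv, huv⟩ := hXmem x x.2
        rw [← huv] at hx'
        have hboth : u⁻¹ * (b * u * b⁻¹) = v * (b * v * b⁻¹)⁻¹ := by
          calc u⁻¹ * (b * u * b⁻¹) = u⁻¹ * (b * (u * v) * b⁻¹) * (b * v * b⁻¹)⁻¹ := by group
            _ = v * (b * v * b⁻¹)⁻¹ := by rw [hx']; group
        have h1 : u⁻¹ * (b * u * b⁻¹) = 1 := by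
          refine H20.eq_one_of_mem_of_coprime (A := R) (B := Q) ?_
            (mul_mem (inv_mem hu.1) (hbR₀ u hu).1) ?_
          · obtain ⟨i, hi⟩ := IsPGroup.iff_card.1 hQ
            obtain ⟨j, hj⟩ := IsPGroup.iff_card.1 hR
            rw [hi, hj]
            exact Nat.Coprime.pow _ _ ((Nat.coprime_primes Fact.out Fact.out).2 (Ne.symm hqr))
          · rw [hboth]
            exact mul_mem hv (inv_mem (conj_mem_of_mem_normalizer (hAQ hb) hv))
        have h2 : v * (b * v * b⁻¹)⁻¹ = 1 := by rw [← hboth, h1]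
        have hu1 : u = 1 := by
          rw [← Subgroup.mem_bot, ← hfR]
          exact ⟨hu.1, hAc u (hR₀a u hu) (mul_inv_eq_iff_eq_mul.1 (inv_mul_eq_one.1 h1).symm)⟩
        have hv1 : v = 1 := by
          rw [← Subgroup.mem_bot, ← hfQ]
          exact ⟨hv, hAc v (haQ v hv) (mul_inv_eq_iff_eq_mul.1 (mul_inv_eq_one.1 h2).symm)⟩
        apply Subtype.ext
        rw [← huv, hu1, hv1, mul_one]
        rfl
      · intro x
        rw [← H21.aut_pow_apply, ← map_pow]
        apply Subtype.ext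
        show ((⟨b, hbXn⟩ : ↥(Subgroup.normalizer (X : Set Γ))) ^ p : Γ) * x *
          ((⟨b, hbXn⟩ : ↥(Subgroup.normalizer (X : Set Γ))) ^ p : Γ)⁻¹ = x
        rw [hexp b hb]
        simp
    intro x hx
    rw [Subgroup.mem_centralizer_iff]
    intro y hy
    have hxX : x ∈ X := le_sup_left (b := Q) hx
    have hyX : y ∈ X := le_sup_right (a := R₀) hy
    haveI := hnil
    have hco : (orderOf (⟨x, hxX⟩ : X)).Coprime (orderOf (⟨y, hyX⟩ : X)) := by
      rw [Subgroup.orderOf_mk, Subgroup.orderOf_mk]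
      obtain ⟨i, hi⟩ := IsPGroup.iff_orderOf.1 hR ⟨x, hx.1⟩
      obtain ⟨j, hj⟩ := IsPGroup.iff_orderOf.1 hQ ⟨y, hy⟩
      rw [Subgroup.orderOf_mk] at hi hj
      rw [hi, hj]
      exact Nat.Coprime.pow _ _ ((Nat.coprime_primes Fact.out Fact.out).2 (Ne.symm hqr))
    exact congrArg Subtype.val (H55.commute_of_coprime_orderOf hnil hco).eq.symm
  · -- `a` acts freely on `C_R(c)` and trivially on `Q`
    set R₀ := R ⊓ Subgroup.centralizer {c} with hR₀
    have haR₀ : ∀ x ∈ R₀, a * x * a⁻¹ ∈ R₀ := by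
      intro x hx
      refine Subgroup.mem_inf.2 ⟨conj_mem_of_mem_normalizer (hAR ha) hx.1, ?_⟩
      rw [Subgroup.mem_centralizer_singleton_iff]
      have hxc := Subgroup.mem_centralizer_singleton_iff.1 hx.2
      calc a * x * a⁻¹ * c = a * x * (a⁻¹ * (c * a)) * a⁻¹ := by group
        _ = a * x * c * a⁻¹ := by rw [hcommA c hc a ha, inv_mul_cancel_left]
        _ = a * (c * x) * a⁻¹ := by rw [mul_assoc a x c, hxc]
        _ = c * (a * x * a⁻¹) := by rw [← mul_assoc a c x, hcommA a ha c hc]; group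
    let f : R₀ → R₀ := fun x => ⟨(x : Γ)⁻¹ * (a * x * a⁻¹), mul_mem (inv_mem x.2) (haR₀ _ x.2)⟩
    have hf : Function.Injective f := by
      intro u v huv
      have h : (u : Γ)⁻¹ * (a * u * a⁻¹) = (v : Γ)⁻¹ * (a * v * a⁻¹) := congrArg Subtype.val huv
      have hfx : a * ((u : Γ) * (v : Γ)⁻¹) * a⁻¹ = (u : Γ) * (v : Γ)⁻¹ := by
        calc a * ((u : Γ) * (v : Γ)⁻¹) * a⁻¹
            = (u : Γ) * ((u : Γ)⁻¹ * (a * u * a⁻¹)) * (a * v * a⁻¹)⁻¹ := by group
          _ = (u : Γ) * (v : Γ)⁻¹ := by rw [h]; group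
      have hmem : (u : Γ) * (v : Γ)⁻¹ ∈ R₀ := mul_mem u.2 (inv_mem v.2)
      have h1 : (u : Γ) * (v : Γ)⁻¹ = 1 := by
        rw [← Subgroup.mem_bot, ← hfR]
        refine Subgroup.mem_inf.2 ⟨hmem.1, ?_⟩
        rw [← Subgroup.zpowers_le, Subgroup.le_centralizer_iff]
        refine le_of_two_mem hA ha hc ha1 hca ?_ ?_ <;>
          rw [Subgroup.mem_centralizer_iff] <;> rintro _ ⟨i, rfl⟩
        · exact (Commute.zpow_right (mul_inv_eq_iff_eq_mul.1 hfx) i).eq.symm
        · exact (Commute.zpow_right (Subgroup.mem_centralizer_singleton_iff.1 hmem.2).symm i).eq.symm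
      exact Subtype.ext (mul_inv_eq_one.1 h1)
    intro x hx
    obtain ⟨⟨u, hu⟩, hux⟩ := Finite.injective_iff_surjective.1 hf ⟨x, hx⟩
    have hux' : u⁻¹ * (a * u * a⁻¹) = x := congrArg Subtype.val hux
    rw [← hux', Subgroup.mem_centralizer_iff]
    intro y hy
    have hy' : u * y * u⁻¹ ∈ Q := conj_mem_of_mem_normalizer (hRQ hu.1) hy
    have e1 := haQ y hy
    have e2 := haQ _ hy'
    calc y * (u⁻¹ * (a * u * a⁻¹)) = u⁻¹ * ((u * y * u⁻¹) * a) * u * a⁻¹ := by group
      _ = u⁻¹ * (a * (u * y * u⁻¹)) * u * a⁻¹ := by rw [e2]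
      _ = u⁻¹ * a * u * y * a⁻¹ := by group
      _ = u⁻¹ * (a * u * a⁻¹) * y := by
        have e3 : y * a⁻¹ = a⁻¹ * y := (Commute.inv_left (show Commute a y from e1)).eq.symm
        calc u⁻¹ * a * u * y * a⁻¹ = u⁻¹ * a * u * (y * a⁻¹) := by group
          _ = _ := by rw [e3]; group

end Ward

end Cfsg.Agent.H84
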