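import Mathlib
import Cfsg.Agent.S3807
import Cfsg.Agent.H84.EspecIndex
import Cfsg.Agent.H84.WardCore

/-! Soft subgroups (Héthelyi): self-centralising abelian subgroups of index `p` in their
normalisers, and the normaliser tower above them. -/

set_option autoImplicit false

namespace Cfsg.Agent.H84

open scoped commutatorElement

universe u

section
variable {P : Type u} [Group P] [Finite P] {p : ℕ} [Fact p.Prime]

/-- In a `p`-group a proper subgroup with normaliser index `p` is covered by its normaliser. -/
theorem eq_or_normalizer_le (hP : IsPGroup p P) {E K : Subgroup P}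
    (hN : (E.subgroupOf (Subgroup.normalizer (E : Set P))).index = p) (hEK : E ≤ K) :
    K = E ∨ Subgroup.normalizer (E : Set P) ≤ K := by
  by_cases hKE : K = E
  · exact Or.inl hKE
  refine Or.inr ?_
  set N := Subgroup.normalizer (E : Set P) with hNdef
  haveI := (hP.to_subgroup K).isNilpotent
  have hlt : E.subgroupOf K < ⊤ := lt_top_iff_ne_top.2 fun h =>
    hKE (le_antisymm (Subgroup.subgroupOf_eq_top.1 h) hEK)
  have hsn := Group.normalizerCondition_of_isNilpotent (E.subgroupOf K) hlt
  obtain ⟨x, hx, hxE⟩ := SetLike.exists_of_lt hsn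
  have hxN : (x : P) ∈ N := mem_normalizer_of_forall fun e he =>
    (Subgroup.mem_normalizer_iff.1 hx (⟨e, hEK he⟩ : K)).1 he
  have h1 : E ≤ N := Subgroup.le_normalizer
  have h2 : E ≤ N ⊓ K := le_inf h1 hEK
  have h3 := Subgroup.relIndex_mul_relIndex E (N ⊓ K) N h2 inf_le_left
  have h4 : E.relIndex N = p := hN
  rw [h4] at h3
  rcases (Nat.dvd_prime (Fact.out : p.Prime)).1 (Dvd.intro _ h3) with h5 | h5
  · exact absurd (Subgroup.relIndex_eq_one.1 h5 ⟨hxN, x.2⟩) hxE
  · rw [h5] at h3
    have h6 : (N ⊓ K).relIndex N = 1 :=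
      Nat.eq_of_mul_eq_mul_left (Fact.out : p.Prime).pos (h3.trans (mul_one p).symm)
    exact (Subgroup.relIndex_eq_one.1 h6).trans inf_le_right

/-- The lower bound on the class of a member of the tower. -/
theorem tower_class_lower {E : Subgroup P} (hC : Subgroup.centralizer (E : Set P) ≤ E)
    (hB : ∀ K : Subgroup P, E ≤ K → K ≠ ⊤ →
      (K.subgroupOf (Subgroup.normalizer (K : Set P))).index = p)
    {K : Subgroup P} [Group.IsNilpotent K] (hEK : E ≤ K) (hK : K ≠ ⊤) (i : ℕ)
    (hi : K.index * p ^ i = E.index) (hE : E ≠ ⊥) :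
    i + 1 ≤ Group.nilpotencyClass K := by
  have hp := (Fact.out : p.Prime)
  set c := Group.nilpotencyClass K with hc
  let F : ℕ → Subgroup P := fun j =>
    E ⊔ (Subgroup.upperCentralSeries K (j + 1)).map K.subtype
  have hFK : ∀ j, F j ≤ K := fun j => sup_le hEK (Subgroup.map_subtype_le _)
  have hmono : ∀ j, F j ≤ F (j + 1) := fun j => sup_le_sup le_rfl
    (Subgroup.map_mono (Subgroup.upperCentralSeries_mono _ (Nat.le_succ _)))
  have hnorm : ∀ j, F (j + 1) ≤ Subgroup.normalizer (F j : Set P) := by
    intro j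
    refine sup_le ((le_sup_left : E ≤ F j).trans Subgroup.le_normalizer) ?_
    rintro _ ⟨z, hz, rfl⟩
    refine mem_normalizer_of_forall fun x hx => ?_
    have h := Subgroup.mem_upperCentralSeries_succ_iff.1 hz ⟨x, hFK j hx⟩
    have h' : ⁅(z : P), x⁆ ∈ F j :=
      (le_sup_right : _ ≤ F j) ⟨_, h, rfl⟩
    have := mul_mem h' hx
    simpa [commutatorElement_def] using this
  have hstep : ∀ j, Nat.card (F (j + 1)) ≤ p * Nat.card (F j) := by
    intro j
    have hne : F j ≠ ⊤ := fun h => hK (top_le_iff.1 (h ▸ hFK j))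
    have h1 : (F j).relIndex (Subgroup.normalizer (F j : Set P)) = p := hB _ le_sup_left hne
    have h2 := Subgroup.relIndex_le_of_le_right (H := F j) (hnorm j) (by rw [h1]; exact hp.ne_zero)
    have h3 := Subgroup.relIndex_mul_relIndex (⊥ : Subgroup P) (F j) (F (j + 1)) bot_le (hmono j)
    rw [Subgroup.relIndex_bot_left, Subgroup.relIndex_bot_left] at h3
    rw [← h3, mul_comm p]
    exact Nat.mul_le_mul_left _ (h2.trans h1.le)
  have hF : ∀ j, Nat.card (F j) ≤ p ^ j * Nat.card E := by
    intro j
    induction j with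
    | zero =>
      rw [pow_zero, one_mul]
      refine Subgroup.card_le_of_le (sup_le le_rfl ?_)
      rintro _ ⟨z, hz, rfl⟩
      rw [Subgroup.upperCentralSeries_one] at hz
      exact hC (Subgroup.mem_centralizer_iff.2 fun e he =>
        congrArg Subtype.val (Subgroup.mem_center_iff.1 hz ⟨e, hEK he⟩))
    | succ j ih =>
      refine (hstep j).trans ?_
      rw [pow_succ', mul_assoc]
      exact Nat.mul_le_mul_left _ ih
  have hcard : Nat.card K = p ^ i * Nat.card E := by
    have h1 := Subgroup.card_mul_index K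
    rw [← Subgroup.card_mul_index E, ← hi] at h1
    exact Nat.eq_of_mul_eq_mul_right
      (Nat.pos_of_ne_zero Subgroup.index_ne_zero_of_finite : 0 < K.index) (h1.trans (by ring))
  have hc1 : 1 ≤ c := by
    by_contra h
    have h0 : c = 0 := by omega
    haveI : Subsingleton K := Group.nilpotencyClass_zero_iff_subsingleton.1 h0
    exact hE (le_bot_iff.1 (hEK.trans (Subgroup.eq_bot_of_subsingleton K).le))
  have htop : F (c - 1) = K := by
    refine le_antisymm (hFK _) fun x hx => ?_
    refine (le_sup_right : _ ≤ F (c - 1)) ⟨⟨x, hx⟩, ?_, rfl⟩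
    rw [show c - 1 + 1 = c by omega, hc, Subgroup.upperCentralSeries_nilpotencyClass]
    exact Subgroup.mem_top _
  have := hF (c - 1)
  rw [htop, hcard] at this
  have h2 := (Nat.pow_le_pow_iff_right hp.one_lt).1 (Nat.le_of_mul_le_mul_right this Nat.card_pos)
  omega

/-- Two conjugates count: the normaliser of `E` has index `p` in its own normaliser. -/
theorem normalizer_step (hP : IsPGroup p P) {E : Subgroup P} (hEab : IsMulCommutative ↥E)
    (hC : Subgroup.centralizer (E : Set P) ≤ E)
    (hN : (E.subgroupOf (Subgroup.normalizer (E : Set P))).index = p)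
    (hNtop : Subgroup.normalizer (E : Set P) ≠ ⊤) :
    ((Subgroup.normalizer (E : Set P)).subgroupOf
      (Subgroup.normalizer ((Subgroup.normalizer (E : Set P)) : Set P))).index = p := by
  classical
  have hp := (Fact.out : p.Prime)
  set N := Subgroup.normalizer (E : Set P) with hNdef
  set M := Subgroup.normalizer (N : Set P) with hMdef
  have hEN : E ≤ N := Subgroup.le_normalizer
  have hna : ¬ IsMulCommutative N := fun h => by
    have hle : N ≤ E := fun x hx => hC (Subgroup.mem_centralizer_iff.2 fun e he =>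
      congrArg Subtype.val (h.is_comm.comm (⟨e, hEN he⟩ : N) ⟨x, hx⟩))
    rw [show (E.subgroupOf N).index = E.relIndex N from rfl,
      Subgroup.relIndex_eq_one.2 hle] at hN
    exact hp.ne_one hN.symm
  have hA : IsMulCommutative ↥(E.subgroupOf N) :=
    ⟨⟨fun a b => Subtype.ext (Subtype.ext
      (congrArg Subtype.val (hEab.is_comm.comm (⟨(a : N), a.2⟩ : E) ⟨(b : N), b.2⟩) :))⟩⟩
  have h7 := (Cfsg.Agent.S3807.result p (hP.to_subgroup N) hna (E.subgroupOf N) hA hN).2
  set T := {B : Subgroup N // IsMulCommutative ↥B ∧ B.index = p}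
  have hT : Nat.card T ≤ p + 1 := by
    rcases h7 with ⟨-, -, -, h⟩ | ⟨-, h⟩
    · exact h.le
    · haveI : Subsingleton T := ⟨fun a b => Subtype.ext ((h _ a.2.1 a.2.2).trans
        (h _ b.2.1 b.2.2).symm)⟩
      exact (Finite.card_le_one_iff_subsingleton.2 inferInstance).trans (by omega)
  let cj : M → Subgroup N := fun g => (E.map (MulAut.conj (g : P)).toMonoidHom).subgroupOf N
  have hcjle : ∀ g : M, E.map (MulAut.conj (g : P)).toMonoidHom ≤ N := by
    rintro g _ ⟨e, he, rfl⟩
    exact (Subgroup.mem_normalizer_iff.1 g.2 e).1 (hEN he)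
  have hcjT : ∀ g : M, IsMulCommutative ↥(cj g) ∧ (cj g).index = p := by
    intro g
    constructor
    · refine ⟨⟨fun a b => Subtype.ext (Subtype.ext ?_)⟩⟩
      obtain ⟨x, hx, hxe⟩ := a.2
      obtain ⟨y, hy, hye⟩ := b.2
      show ((a : N) : P) * ((b : N) : P) = ((b : N) : P) * ((a : N) : P)
      simp only [Subgroup.coe_subtype] at hxe hye
      rw [← hxe, ← hye, ← map_mul, ← map_mul]
      exact congrArg _ (congrArg Subtype.val (hEab.is_comm.comm (⟨x, hx⟩ : E) ⟨y, hy⟩))
    · have h1 := Subgroup.card_mul_index (cj g)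
      have h2 := Subgroup.card_mul_index (E.subgroupOf N)
      rw [hN, Nat.card_congr (Subgroup.subgroupOfEquivOfLe hEN).toEquiv] at h2
      rw [Nat.card_congr (Subgroup.subgroupOfEquivOfLe (hcjle g)).toEquiv,
        Subgroup.card_map_of_injective (MulAut.conj (g : P)).injective, ← h2] at h1
      exact Nat.eq_of_mul_eq_mul_left Nat.card_pos h1
  let φ : M ⧸ N.subgroupOf M → T := fun q => ⟨cj q.out, hcjT q.out⟩
  have hφ : Function.Injective φ := by
    intro q r h
    have h1 : cj q.out = cj r.out := congrArg Subtype.val h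
    rw [← q.out_eq', ← r.out_eq', QuotientGroup.eq]
    show ((q.out : M) : P)⁻¹ * ((r.out : M) : P) ∈ N
    refine mem_normalizer_of_forall fun e he => ?_
    have h2 : (⟨((r.out : M) : P) * e * ((r.out : M) : P)⁻¹, hcjle r.out ⟨e, he, rfl⟩⟩ : N)
        ∈ cj r.out := ⟨e, he, rfl⟩
    rw [← h1] at h2
    obtain ⟨e', he', hee⟩ := h2
    have h3 : ((q.out : M) : P) * e' * ((q.out : M) : P)⁻¹
        = ((r.out : M) : P) * e * ((r.out : M) : P)⁻¹ := hee
    have heq : ((q.out : M) : P)⁻¹ * ((r.out : M) : P) * e *
        (((q.out : M) : P)⁻¹ * ((r.out : M) : P))⁻¹ = e' :=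
      calc ((q.out : M) : P)⁻¹ * ((r.out : M) : P) * e * (((q.out : M) : P)⁻¹ * ((r.out : M) : P))⁻¹
          = ((q.out : M) : P)⁻¹ * (((r.out : M) : P) * e * ((r.out : M) : P)⁻¹) * ((q.out : M) : P) := by
            group
        _ = e' := by rw [← h3]; group
    rw [heq]; exact he'
  have hle : N.relIndex M ≤ p + 1 := (Nat.card_le_card_of_injective φ hφ).trans hT
  haveI := hP.isNilpotent
  have hlt : N < M := Group.normalizerCondition_of_isNilpotent N (lt_top_iff_ne_top.2 hNtop)
  obtain ⟨k, hk⟩ := (hP.to_subgroup M).index (N.subgroupOf M)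
  have hk' : N.relIndex M = p ^ k := hk
  show N.relIndex M = p
  rw [hk'] at hle ⊢
  rcases k with _ | _ | k
  · exact absurd (Subgroup.relIndex_eq_one.1 (hk'.trans (pow_zero p))) (not_le_of_gt hlt)
  · exact pow_one p
  · exfalso
    have h1 : p ^ 2 ≤ p ^ (k + 1 + 1) := Nat.pow_le_pow_right hp.pos (by omega)
    have h2 : p ^ 2 ≤ p + 1 := h1.trans hle
    nlinarith [hp.two_le]

end

/-- The normaliser tower above a soft subgroup. -/
theorem soft_tower (p : ℕ) [Fact p.Prime] : ∀ (n : ℕ) (P : Type u) [Group P] [Finite P],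
    Nat.card P ≤ n → IsPGroup p P → ∀ E : Subgroup P, IsMulCommutative ↥E →
    Subgroup.centralizer (E : Set P) ≤ E →
    (E.subgroupOf (Subgroup.normalizer (E : Set P))).index = p → E ≠ ⊤ →
    (∀ K L : Subgroup P, E ≤ K → E ≤ L → K ≤ L ∨ L ≤ K) ∧
      (∀ K : Subgroup P, E ≤ K → K ≠ ⊤ →
        (K.subgroupOf (Subgroup.normalizer (K : Set P))).index = p) ∧
      ∀ (i : ℕ) (K : Subgroup P) [Group.IsNilpotent ↥K], E ≤ K → K ≠ ⊤ →
        K.index * p ^ i = E.index → Group.nilpotencyClass ↥K = i + 1 := by
  intro n
  induction n with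
  | zero =>
    intro P _ _ hle
    exact absurd hle (Nat.not_le.2 Nat.card_pos)
  | succ n ih =>
    intro P _ _ hle hP E hEab hC hN hEtop
    have hp := (Fact.out : p.Prime)
    haveI := hP.isNilpotent
    have hE0 : E ≠ ⊥ := by
      intro h
      refine hEtop (eq_top_iff.2 fun x _ => hC (Subgroup.mem_centralizer_iff.2 fun e he => ?_))
      rw [h] at he
      simp [Subgroup.mem_bot.1 he]
    have hclassE : ∀ [Group.IsNilpotent E], Group.nilpotencyClass E = 1 := by
      intro _
      apply le_antisymm
      · rw [← Subgroup.upperCentralSeries_eq_top_iff_nilpotencyClass_le,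
          Subgroup.upperCentralSeries_one, eq_top_iff]
        exact fun x _ => Subgroup.mem_center_iff.2 fun y => hEab.is_comm.comm y x
      · by_contra h
        haveI : Subsingleton E := Group.nilpotencyClass_zero_iff_subsingleton.1 (by omega)
        exact hE0 (Subgroup.eq_bot_of_subsingleton E)
    have hi0 : ∀ i : ℕ, E.index * p ^ i = E.index → i = 0 := by
      intro i hi
      have h : p ^ i = p ^ 0 := by
        rw [pow_zero]
        exact Nat.eq_of_mul_eq_mul_left (Nat.pos_of_ne_zero Subgroup.index_ne_zero_of_finite)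
          (hi.trans (mul_one _).symm)
      exact Nat.pow_right_injective hp.two_le h
    set N := Subgroup.normalizer (E : Set P) with hNdef
    have hEN : E ≤ N := Subgroup.le_normalizer
    by_cases hNtop : N = ⊤
    · have hone : ∀ K : Subgroup P, E ≤ K → K = E ∨ K = ⊤ := fun K hK =>
        (eq_or_normalizer_le hP hN hK).imp id fun h => top_le_iff.1 (hNtop ▸ h)
      refine ⟨fun K L hK hL => ?_, fun K hK hKt => ?_, fun i K _ hK hKt hi => ?_⟩
      · rcases hone K hK with rfl | rfl
        · exact Or.inl hL
        · exact Or.inr le_top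
      · obtain rfl := (hone K hK).resolve_right hKt
        exact hN
      · obtain rfl := (hone K hK).resolve_right hKt
        rw [hclassE, hi0 i hi]
    -- the centre of the normal closure of `E`
    set R := Subgroup.normalClosure (E : Set P) with hRdef
    have hER : E ≤ R := Subgroup.le_normalClosure
    have hRtop : R ≠ ⊤ := by
      obtain ⟨M, hM, hEM⟩ := (eq_top_or_exists_le_coatom E).resolve_left hEtop
      haveI := Subgroup.NormalizerCondition.normal_of_coatom M
        Group.normalizerCondition_of_isNilpotent hM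
      exact fun h => hM.1 (top_le_iff.1 (h ▸ Subgroup.normalClosure_le_normal hEM))
    have hNR : N ≤ R := by
      refine (eq_or_normalizer_le hP hN hER).resolve_left fun h => hNtop ?_
      rw [hNdef, Subgroup.normalizer_eq_top_iff, ← h]
      exact Subgroup.normalClosure_normal
    haveI := (hP.to_subgroup R).isNilpotent
    set Z := (Subgroup.center R).map R.subtype with hZdef
    haveI hZn : Z.Normal := inferInstance
    have hZE : Z ≤ E := by
      rintro _ ⟨z, hz, rfl⟩
      exact hC (Subgroup.mem_centralizer_iff.2 fun e he =>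
        congrArg Subtype.val (Subgroup.mem_center_iff.1 hz ⟨e, hER he⟩))
    have hRne : R ≠ ⊥ := fun h => hE0 (le_bot_iff.1 (h ▸ hER))
    have hZne : Z ≠ ⊥ := by
      haveI : Nontrivial R := (Subgroup.nontrivial_iff_ne_bot R).2 hRne
      rw [hZdef, ne_eq, Subgroup.map_eq_bot_iff, R.ker_subtype, le_bot_iff]
      exact Group.IsNilpotent.center_ne_bot R
    have hRab : ¬ R ≤ E := fun h => hNtop (by
      rw [hNdef, Subgroup.normalizer_eq_top_iff, ← le_antisymm h hER]
      exact Subgroup.normalClosure_normal)
    -- an element of the second centre of `R` outside `E`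
    set Z2 := (Subgroup.upperCentralSeries R 2).map R.subtype with hZ2def
    haveI : Z2.Normal := inferInstance
    obtain ⟨w, hw, hwE⟩ : ∃ w ∈ Z2, w ∉ E := by
      by_contra hcon
      push Not at hcon
      have hcen : R ≤ Subgroup.centralizer (Z2 : Set P) :=
        Subgroup.normalClosure_le_normal fun e he => Subgroup.mem_centralizer_iff.2 fun z hz =>
          (congrArg Subtype.val (hEab.is_comm.comm (⟨z, hcon z hz⟩ : E) ⟨e, he⟩) :)
      have h2 : Subgroup.upperCentralSeries R 2 ≤ Subgroup.center R := fun z hz =>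
        Subgroup.mem_center_iff.2 fun r => Subtype.ext
          (Subgroup.mem_centralizer_iff.1 (hcen r.2) z ⟨z, hz, rfl⟩).symm
      haveI hst : Subsingleton (R ⧸ Subgroup.center R) := by
        by_contra hns
        haveI := not_subsingleton_iff_nontrivial.1 hns
        apply Group.IsNilpotent.center_ne_bot (R ⧸ Subgroup.center R)
        rw [eq_bot_iff]
        intro x hx
        induction x using QuotientGroup.induction_on with
        | _ r =>
          rw [Subgroup.mem_bot, QuotientGroup.eq_one_iff]
          refine h2 (Subgroup.mem_upperCentralSeries_succ_iff.2 fun y => ?_)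
          rw [Subgroup.upperCentralSeries_one, ← QuotientGroup.eq_one_iff]
          show QuotientGroup.mk' _ _ = 1
          rw [map_commutatorElement, commutatorElement_eq_one_iff_mul_comm]
          exact (Subgroup.mem_center_iff.1 hx _).symm
      refine hRab fun r hr => hC (Subgroup.mem_centralizer_iff.2 fun e he => ?_)
      have hr' : (⟨r, hr⟩ : R) ∈ Subgroup.center R :=
        (QuotientGroup.eq_one_iff _).1 (Subsingleton.elim _ _)
      exact congrArg Subtype.val (Subgroup.mem_center_iff.1 hr' ⟨e, hER he⟩)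
    have hwc : ∀ r ∈ R, ⁅w, r⁆ ∈ Z := by
      intro r hr
      obtain ⟨w', hw', rfl⟩ := hw
      refine ⟨⁅w', (⟨r, hr⟩ : R)⁆, ?_, rfl⟩
      have h := Subgroup.mem_upperCentralSeries_succ_iff.1 hw' (⟨r, hr⟩ : R)
      rw [Subgroup.upperCentralSeries_one] at h
      exact h
    have hwN : w ∈ N := mem_normalizer_of_forall fun e he => by
      have := mul_mem (hZE (hwc e (hER he))) he
      simpa [commutatorElement_def] using this
    have hNgen : N = E ⊔ Subgroup.zpowers w := by
      refine le_antisymm ?_ (sup_le hEN (Subgroup.zpowers_le.2 hwN))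
      refine (eq_or_normalizer_le hP hN le_sup_left).resolve_left fun h => hwE ?_
      exact h.le ((le_sup_right : Subgroup.zpowers w ≤ _) (Subgroup.mem_zpowers w))
    -- the quotient
    set q := QuotientGroup.mk' Z with hq
    have hqs : Function.Surjective q := QuotientGroup.mk'_surjective Z
    have hker : q.ker = Z := QuotientGroup.ker_mk' Z
    have hcomm : ∀ r ∈ R, q w * q r = q r * q w := by
      intro r hr
      rw [← commutatorElement_eq_one_iff_mul_comm, ← map_commutatorElement]
      exact (QuotientGroup.eq_one_iff _).2 (hwc r hr)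
    set E' := N.map q with hE'
    have hE'ab : IsMulCommutative ↥E' := by
      rw [hE', hNgen, Subgroup.map_sup, MonoidHom.map_zpowers, ← Subgroup.closure_eq (E.map q),
        Subgroup.zpowers_eq_closure, ← Subgroup.closure_union]
      refine Subgroup.isMulCommutative_closure ?_
      rintro _ (⟨a, ha, rfl⟩ | rfl) _ (⟨b, hb, rfl⟩ | rfl)
      · rw [← map_mul, ← map_mul, (show a * b = b * a from congrArg Subtype.val (hEab.is_comm.comm (⟨a, ha⟩ : E) ⟨b, hb⟩))]
      · exact (hcomm a (hER ha)).symm
      · exact hcomm b (hER hb)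
      · rfl
    have hcomap : ∀ K : Subgroup P, Z ≤ K → (K.map q).comap q = K := fun K hK =>
      Subgroup.comap_map_eq_self (by rw [hker]; exact hK)
    have hC' : Subgroup.centralizer (E' : Set (P ⧸ Z)) ≤ E' := by
      intro y hy
      obtain ⟨x, rfl⟩ := hqs y
      refine ⟨x, ?_, rfl⟩
      refine mem_normalizer_of_forall fun e he => ?_
      have h := Subgroup.mem_centralizer_iff.1 hy (q e) ⟨e, hEN he, rfl⟩
      have h2 : q (x * e * x⁻¹) = q e := by
        rw [map_mul, map_mul, ← h, map_inv, mul_inv_cancel_right]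
      have h3 : e⁻¹ * (x * e * x⁻¹) ∈ Z := QuotientGroup.eq.1 h2.symm
      have := mul_mem he (hZE h3)
      rwa [mul_inv_cancel_left] at this
    have hnormmap : ∀ K : Subgroup P, Z ≤ K →
        Subgroup.normalizer ((K.map q : Subgroup (P ⧸ Z)) : Set (P ⧸ Z)) =
          (Subgroup.normalizer (K : Set P)).map q := by
      intro K hK
      apply Subgroup.comap_injective hqs
      rw [Subgroup.comap_normalizer_eq_of_surjective _ hqs, hcomap K hK,
        hcomap _ (hK.trans Subgroup.le_normalizer)]
    have hrel : ∀ K : Subgroup P, Z ≤ K →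
        ((K.map q).subgroupOf (Subgroup.normalizer ((K.map q : Subgroup (P ⧸ Z)) : Set (P ⧸ Z)))).index
          = (K.subgroupOf (Subgroup.normalizer (K : Set P))).index := by
      intro K hK
      show (K.map q).relIndex _ = K.relIndex _
      rw [hnormmap K hK, Subgroup.relIndex_map_map, hker, sup_eq_left.2 hK,
        sup_eq_left.2 (hK.trans Subgroup.le_normalizer)]
    have hZN : Z ≤ N := hZE.trans hEN
    have hE'top : E' ≠ ⊤ := fun h => hNtop (by rw [← hcomap N hZN, ← hE', h, Subgroup.comap_top])
    have hlt : Nat.card (P ⧸ Z) ≤ n := by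
      have h1 := Z.index_mul_card
      have h2 : 1 < Nat.card Z :=
        Finite.one_lt_card_iff_nontrivial.2 ((Subgroup.nontrivial_iff_ne_bot Z).2 hZne)
      have h3 : 0 < Z.index := Nat.pos_of_ne_zero Subgroup.index_ne_zero_of_finite
      rw [← Subgroup.index_eq_card]
      nlinarith
    obtain ⟨ih1, ih2, ih3⟩ := ih (P ⧸ Z) hlt (hP.to_quotient Z) E' hE'ab hC'
      ((hrel N hZN).trans (normalizer_step hP hEab hC hN hNtop)) hE'top
    have hchain : ∀ K L : Subgroup P, E ≤ K → E ≤ L → K ≤ L ∨ L ≤ K := by
      intro K L hK hL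
      rcases eq_or_normalizer_le hP hN hK with rfl | hK'
      · exact Or.inl hL
      rcases eq_or_normalizer_le hP hN hL with rfl | hL'
      · exact Or.inr hK
      rw [← hcomap K (hZN.trans hK'), ← hcomap L (hZN.trans hL')]
      exact (ih1 _ _ (Subgroup.map_mono hK') (Subgroup.map_mono hL')).imp
        Subgroup.comap_mono Subgroup.comap_mono
    have hsteps : ∀ K : Subgroup P, E ≤ K → K ≠ ⊤ →
        (K.subgroupOf (Subgroup.normalizer (K : Set P))).index = p := by
      intro K hK hKt
      rcases eq_or_normalizer_le hP hN hK with rfl | hK'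
      · exact hN
      rw [← hrel K (hZN.trans hK')]
      refine ih2 _ (Subgroup.map_mono hK') fun h => hKt ?_
      rw [← hcomap K (hZN.trans hK'), h, Subgroup.comap_top]
    refine ⟨hchain, hsteps, fun i K _ hK hKt hi => ?_⟩
    rcases eq_or_normalizer_le hP hN hK with rfl | hK'
    · rw [hclassE, hi0 i hi]
    -- `Z` is central in `K`
    have hRi : R.index = p := by
      have h := hsteps R hER hRtop
      rw [show Subgroup.normalizer (R : Set P) = ⊤ from
        Subgroup.normalizer_eq_top_iff.2 Subgroup.normalClosure_normal] at h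
      rw [← R.relIndex_top_right]
      exact h
    have hKR : K ≤ R := by
      rcases hchain K R hK hER with h | h
      · exact h
      · rcases eq_or_lt_of_le h with h' | h'
        · exact h'.ge
        · exact absurd ((index_prime_spec hP hRi).1.2 K h') hKt
    have hNi : E.index = N.index * p := by
      rw [← Subgroup.relIndex_mul_index hEN, mul_comm]
      congr 1
    have hi1 : 1 ≤ i := by
      by_contra h
      obtain rfl : i = 0 := by omega
      have h1 : N.index * p ≤ K.index := by rw [← hNi, ← hi, pow_zero, mul_one]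
      have h2 : K.index ≤ N.index := Nat.le_of_dvd
        (Nat.pos_of_ne_zero Subgroup.index_ne_zero_of_finite) (Subgroup.index_dvd_of_le hK')
      have h3 : 0 < N.index := Nat.pos_of_ne_zero Subgroup.index_ne_zero_of_finite
      nlinarith [hp.two_le]
    obtain ⟨j, rfl⟩ : ∃ j, i = j + 1 := ⟨i - 1, by omega⟩
    haveI : Group.IsNilpotent (K.map q) := ((hP.to_quotient Z).to_subgroup _).isNilpotent
    have hcl := ih3 j (K.map q) (Subgroup.map_mono hK')
      (fun h => hKt (by rw [← hcomap K (hZN.trans hK'), h, Subgroup.comap_top]))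
      (by
        rw [Subgroup.index_map_eq _ hqs (by rw [hker]; exact hZN.trans hK'),
          Subgroup.index_map_eq _ hqs (by rw [hker]; exact hZN)]
        refine Nat.eq_of_mul_eq_mul_right hp.pos ?_
        rw [← hNi, ← hi, pow_succ, mul_assoc])
    refine le_antisymm ?_ (tower_class_lower hC hsteps hK hKt _ hi hE0)
    have hkc : (q.subgroupMap K).ker ≤ Subgroup.center K := by
      intro x hx
      have hxZ : (x : P) ∈ Z := (QuotientGroup.eq_one_iff _).1 (congrArg Subtype.val hx)
      obtain ⟨z, hz, hze⟩ := hxZ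
      exact Subgroup.mem_center_iff.2 fun y => Subtype.ext (by
        show (y : P) * x = x * y
        rw [← hze]
        exact congrArg Subtype.val (Subgroup.mem_center_iff.1 hz ⟨y, hKR y.2⟩))
    exact (Group.nilpotencyClass_le_of_ker_le_center (q.subgroupMap K) hkc).trans (by rw [hcl])

end Cfsg.Agent.H84
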