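import Mathlib
import Cfsg.Prelude.Def_Solvable
import Cfsg.Agent.H55.PiCore
import Cfsg.Agent.H20.SchurZassenhaus
import Cfsg.Agent.H21.Complement
import Cfsg.Agent.H21.FrobeniusBasic
import Cfsg.Agent.H21.ThompsonFpf
import Cfsg.Agent.H85.OddCyclic
import Cfsg.Agent.H19.Fitting

/-! Solvable groups with a separated prime graph: the Gruenberg–Kegel theorem. -/

set_option autoImplicit false

namespace Cfsg.Agent.H84

open Subgroup
open scoped Pointwise commutatorElement

/-- No element order is a product of a prime in `π` and a prime outside `π`. -/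
def Separated (π : Set ℕ) (G : Type*) [Group G] : Prop :=
  ∀ a b : ℕ, a.Prime → b.Prime → a ∈ π → b ∉ π → ¬ ∃ g : G, orderOf g = a * b

variable {G : Type*} [Group G] [Finite G] {π : Set ℕ}

theorem Separated.compl (h : Separated π G) : Separated πᶜ G := fun a b ha hb haπ hbπ hg =>
  h b a hb ha (not_not.1 hbπ) haπ (by rwa [mul_comm] at hg)

/-- A power of prime order. -/
theorem exists_pow_prime_order {x : G} (hx : x ≠ 1) :
    ∃ (p k : ℕ), p.Prime ∧ p ∣ orderOf x ∧ orderOf (x ^ k) = p := by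
  obtain ⟨p, hp, hd⟩ := Nat.exists_prime_and_dvd (fun h => hx (orderOf_eq_one_iff.1 h))
  refine ⟨p, orderOf x / p, hp, hd, ?_⟩
  rw [orderOf_pow_of_dvd (Nat.div_pos (Nat.le_of_dvd (orderOf_pos x) hd) hp.pos).ne'
    (Nat.div_dvd_of_dvd hd), Nat.div_div_self hd (orderOf_pos x).ne']

/-- A `π`-element and a `π'`-element commute only if one of them is trivial. -/
theorem Separated.eq_one (h : Separated π G) {x y : G} (hx : H55.PiDvd π (orderOf x))
    (hy : H55.PiDvd πᶜ (orderOf y)) (hxy : Commute x y) : x = 1 ∨ y = 1 := by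
  by_contra hc
  push Not at hc
  obtain ⟨p, i, hp, hpx, hi⟩ := exists_pow_prime_order hc.1
  obtain ⟨q, j, hq, hqy, hj⟩ := exists_pow_prime_order hc.2
  have hne : p ≠ q := fun he => hy q hq hqy (he ▸ hx p hp hpx)
  refine h p q hp hq (hx p hp hpx) (hy q hq hqy) ⟨x ^ i * y ^ j, ?_⟩
  rw [(hxy.pow_pow i j).orderOf_mul_eq_mul_orderOf_of_coprime
    (by rw [hi, hj]; exact (Nat.coprime_primes hp hq).2 hne), hi, hj]

theorem Separated.quotient (h : Separated π G) (N : Subgroup G) [N.Normal] :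
    Separated π (G ⧸ N) := by
  rintro a b ha hb haπ hbπ ⟨g, hg⟩
  induction g using QuotientGroup.induction_on with
  | _ g =>
    have hd : a * b ∣ orderOf g := hg ▸ orderOf_map_dvd (QuotientGroup.mk' N) g
    refine h a b ha hb haπ hbπ ⟨g ^ (orderOf g / (a * b)), ?_⟩
    have hpos := Nat.mul_pos ha.pos hb.pos
    rw [orderOf_pow_of_dvd (Nat.div_pos (Nat.le_of_dvd (orderOf_pos g) hd) hpos).ne'
      (Nat.div_dvd_of_dvd hd), Nat.div_div_self hd (orderOf_pos g).ne']

theorem pidvd_orderOf {H : Subgroup G} (hH : H55.PiDvd π (Nat.card H)) {x : G} (hx : x ∈ H) :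
    H55.PiDvd π (orderOf x) :=
  hH.mono (H.orderOf_dvd_natCard hx)

theorem coprime_of_piDvd {m n : ℕ} (hm : H55.PiDvd π m) (hn : H55.PiDvd πᶜ n) : m.Coprime n :=
  Nat.coprime_of_dvd fun p hp h1 h2 => hn p hp h2 (hm p hp h1)

/-- The fixed-point-free action between a `π`- and a `π'`-subgroup. -/
theorem Separated.inf_centralizer (h : Separated π G) {N H : Subgroup G}
    (hN : H55.PiDvd π (Nat.card N)) (hH : H55.PiDvd πᶜ (Nat.card H)) :
    ∀ a ∈ H, a ≠ 1 → N ⊓ centralizer {a} = ⊥ := fun a ha ha1 =>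
  (Subgroup.eq_bot_iff_forall _).2 fun x hx =>
    (h.eq_one (pidvd_orderOf hN hx.1) (pidvd_orderOf hH ha)
      (mem_centralizer_singleton_iff.1 hx.2)).resolve_right ha1

/-- A nontrivial solvable group has a nontrivial normal subgroup of prime power order. -/
theorem exists_normal_pGroup {Q : Type*} [Group Q] [Finite Q] [Group.IsSolvable Q] [Nontrivial Q] :
    ∃ (r : ℕ) (R : Subgroup Q), r.Prime ∧ R.Normal ∧ R ≠ ⊥ ∧ IsPGroup r R := by
  obtain ⟨n, hn⟩ := (Group.isSolvable_def Q).1 inferInstance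
  classical
  have hex : ∃ n, derivedSeries Q n = ⊥ := ⟨n, hn⟩
  obtain ⟨m, hm⟩ : ∃ m, Nat.find hex = m + 1 := by
    refine ⟨Nat.find hex - 1, ?_⟩
    have : Nat.find hex ≠ 0 := fun h0 => by
      have := Nat.find_spec hex
      rw [h0, derivedSeries_zero] at this
      exact top_ne_bot this
    omega
  set D := derivedSeries Q m with hD
  have hDne : D ≠ ⊥ := Nat.find_min hex (by omega)
  have hDD : ⁅D, D⁆ = ⊥ := by
    have := Nat.find_spec hex
    rwa [hm, derivedSeries_succ] at this
  have hcomm : ∀ a ∈ D, ∀ b ∈ D, a * b = b * a := fun a ha b hb =>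
    (commutatorElement_eq_one_iff_mul_comm.1 (mem_bot.1 (hDD.le (commutator_mem_commutator ha hb))))
  obtain ⟨x, hxD, hx1⟩ := (bot_or_exists_ne_one D).resolve_left hDne
  obtain ⟨r, k, hr, -, hk⟩ := exists_pow_prime_order hx1
  let R : Subgroup Q :=
    { carrier := {z | z ∈ D ∧ z ^ r = 1}
      mul_mem' := fun {a b} ha hb => ⟨mul_mem ha.1 hb.1, by
        rw [(show Commute a b from hcomm a ha.1 b hb.1).mul_pow, ha.2, hb.2, one_mul]⟩
      one_mem' := ⟨one_mem D, one_pow r⟩
      inv_mem' := fun {a} ha => ⟨inv_mem ha.1, by rw [inv_pow, ha.2, inv_one]⟩ }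
  have hDn : D.Normal := derivedSeries_normal Q m
  refine ⟨r, R, hr, ⟨fun z hz g => ⟨hDn.conj_mem z hz.1 g, by rw [conj_pow, hz.2]; group⟩⟩,
    fun h0 => ?_, fun z => ⟨1, Subtype.ext (by rw [pow_one]; exact z.2.2)⟩⟩
  have hmem : x ^ k ∈ R := ⟨pow_mem hxD k, hk ▸ pow_orderOf_eq_one _⟩
  rw [h0, mem_bot] at hmem
  rw [hmem, orderOf_one] at hk
  exact hr.one_lt.ne hk

/-- The Gruenberg–Kegel theorem for solvable groups, with a normal `π`-subgroup given. -/
theorem gk_solvable [Group.IsSolvable G] (h : Separated π G) (hcore : Cfsg.piCore π G ≠ ⊥)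
    (hb : ∃ b : ℕ, b.Prime ∧ b ∉ π ∧ b ∣ Nat.card G) :
    (∃ C : Subgroup G, Cfsg.IsFrobeniusComplement C) ∨
    (∃ (H K : Subgroup G) (_ : H.Normal), K.Normal ∧ H < K ∧
      (∃ C : Subgroup ↥K, Cfsg.IsFrobeniusComplement C ∧
        Cfsg.frobeniusKernel C = (H.subgroupOf K : Set ↥K)) ∧
      (∃ C : Subgroup (G ⧸ H), Cfsg.IsFrobeniusComplement C ∧
        Cfsg.frobeniusKernel C = (K.map (QuotientGroup.mk' H) : Set (G ⧸ H)))) := by
  classical
  set N := Cfsg.piCore π G with hNdef
  have hNπ : H55.PiDvd π (Nat.card N) := H55.piCore_piDvd π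
  set q := QuotientGroup.mk' N with hqdef
  have hqs : Function.Surjective q := QuotientGroup.mk'_surjective N
  set M0 := Cfsg.piCore πᶜ (G ⧸ N) with hM0
  have hM0π : H55.PiDvd πᶜ (Nat.card M0) := H55.piCore_piDvd πᶜ
  have hcomap : ∀ X : Subgroup (G ⧸ N), Nat.card (X.comap q) = Nat.card X * Nat.card N := by
    intro X
    exact Nat.eq_of_mul_eq_mul_right (Nat.pos_of_ne_zero index_ne_zero_of_finite : 0 < X.index)
      (calc Nat.card (X.comap q) * X.index
          = Nat.card (X.comap q) * (X.comap q).index := by rw [index_comap_of_surjective _ hqs]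
        _ = Nat.card (G ⧸ N) * Nat.card N := by
            rw [card_mul_index, ← Subgroup.index_eq_card, N.index_mul_card]
        _ = Nat.card X * Nat.card N * X.index := by rw [← card_mul_index X]; ring)
  -- `O_π(G/N) = 1`
  have hQcore : ∀ X : Subgroup (G ⧸ N), X.Normal → H55.PiDvd π (Nat.card X) → X = ⊥ := by
    intro X hX hXπ
    have hle : X.comap q ≤ N := H55.le_piCore (hX.comap q) fun p hp hd => by
      rw [hcomap] at hd
      rcases hp.dvd_mul.1 hd with h1 | h1
      · exact hXπ p hp h1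
      · exact hNπ p hp h1
    rw [← map_comap_eq_self_of_surjective hqs X, ← le_bot_iff]
    exact (map_mono hle).trans (le_of_eq (QuotientGroup.map_mk'_self N))
  haveI : Nontrivial (G ⧸ N) := by
    obtain ⟨b, hbp, hbπ, hbd⟩ := hb
    rw [← Finite.one_lt_card_iff_nontrivial]
    by_contra hle
    have h1 : Nat.card (G ⧸ N) = 1 := le_antisymm (not_lt.1 hle) Nat.card_pos
    rw [← N.index_mul_card, Subgroup.index_eq_card, h1, one_mul] at hbd
    exact hbπ (hNπ b hbp hbd)
  haveI : Group.IsSolvable (G ⧸ N) := Group.isSolvable_of_surjective hqs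
  have hM0ne : M0 ≠ ⊥ := by
    obtain ⟨r, R, hr, hRn, hRne, hRp⟩ := exists_normal_pGroup (Q := G ⧸ N)
    haveI := Fact.mk hr
    obtain ⟨k, hk⟩ := hRp.exists_card_eq
    have hrπ : r ∉ π := fun hrπ => hRne (hQcore R hRn fun p hp hd => by
      rw [hk] at hd
      exact (Nat.prime_dvd_prime_iff_eq hp hr).1 (hp.dvd_of_dvd_pow hd) ▸ hrπ)
    refine fun h0 => hRne (le_bot_iff.1 (h0 ▸ H55.le_piCore hRn fun p hp hd => ?_))
    rw [hk] at hd
    exact (Nat.prime_dvd_prime_iff_eq hp hr).1 (hp.dvd_of_dvd_pow hd) ▸ hrπ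
  set M := M0.comap q with hMdef
  have hNM : N ≤ M := fun x hx => by
    show q x ∈ M0
    rw [show q x = 1 from (QuotientGroup.eq_one_iff x).2 hx]; exact one_mem _
  haveI : M0.Normal := inferInstance
  haveI hMn : M.Normal := inferInstance
  have hrel : N.relIndex M = Nat.card M0 := by
    have h1 := relIndex_mul_relIndex (⊥ : Subgroup G) N M bot_le hNM
    rw [relIndex_bot_left, relIndex_bot_left, hMdef, hcomap, mul_comm (Nat.card M0)] at h1
    exact Nat.eq_of_mul_eq_mul_left Nat.card_pos h1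
  obtain ⟨H0, hH0M, hNH0, hH0c⟩ := H20.exists_complement_of_coprime hNM
    (le_top.trans (normalizer_eq_top (H := N)).ge) (hrel ▸ coprime_of_piDvd hNπ hM0π)
  rw [hrel] at hH0c
  have hH0π : H55.PiDvd πᶜ (Nat.card H0) := hH0c ▸ hM0π
  have hdisj : N ⊓ H0 = ⊥ :=
    inf_eq_bot_of_coprime (coprime_of_piDvd hNπ hH0π)
  have hmap : H0.map q = M0 := by
    rw [← map_comap_eq_self_of_surjective hqs M0, ← hMdef, ← hNH0, Subgroup.map_sup,
      QuotientGroup.map_mk'_self, bot_sup_eq]
  have hinj : Set.InjOn q H0 := fun a ha b hb hab => inv_mul_eq_one.1 (mem_bot.1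
    (hdisj.le ⟨QuotientGroup.eq.1 hab, mul_mem (H0.inv_mem ha) hb⟩))
  haveI : Nontrivial N := (nontrivial_iff_ne_bot N).2 hcore
  have hH0N : H0 ≤ normalizer (N : Set G) := le_top.trans (normalizer_eq_top (H := N)).ge
  have hfpf := H21.conjHom_fpf hH0N (h.inf_centralizer hNπ hH0π)
  have hH0ne : H0 ≠ ⊥ := fun h0 => hM0ne (by rw [← hmap, h0, Subgroup.map_bot])
  by_cases hQ : M0 = ⊤
  · left
    have hMtop : M = ⊤ := by rw [hMdef, hQ, comap_top]
    refine ⟨H0, H21.fc_of_fpf (K := N) ?_ hcore hH0ne (h.inf_centralizer hNπ hH0π)⟩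
    refine isComplement'_of_disjoint_and_mul_eq_univ (disjoint_iff.2 hdisj) ?_
    rw [← normal_mul, hNH0, hMtop, coe_top]
  right
  have hQsep : Separated π (G ⧸ N) := h.quotient N
  -- an element of prime order in `π`
  obtain ⟨r, hr, hrπ, hrd⟩ : ∃ r : ℕ, r.Prime ∧ r ∈ π ∧ r ∣ Nat.card (G ⧸ N) := by
    by_contra hcon
    push Not at hcon
    refine hQ (top_le_iff.1 (H55.le_piCore inferInstance fun p hp hd hpπ => ?_))
    rw [card_top] at hd
    exact hcon p hp hpπ hd
  haveI := Fact.mk hr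
  obtain ⟨b, hb⟩ := exists_prime_orderOf_dvd_card' r hrd
  have hbπ : H55.PiDvd π (orderOf b) := fun p hp hd => by
    rw [hb] at hd
    exact (Nat.prime_dvd_prime_iff_eq hp hr).1 hd ▸ hrπ
  have hbfix : ∀ x ∈ M0, Commute b x → x = 1 := fun x hx hc =>
    (hQsep.eq_one hbπ (pidvd_orderOf hM0π hx) hc).resolve_left
      (fun h1 => hr.ne_one (by rw [← hb, h1, orderOf_one]))
  -- `M0` is cyclic
  have hM0N : zpowers b ≤ normalizer (M0 : Set (G ⧸ N)) :=
    le_top.trans (normalizer_eq_top (H := M0)).ge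
  have hnil : Group.IsNilpotent M0 := by
    refine H21.isNilpotent_of_fpf_action (H21.conjHom hM0N)
      (a := ⟨b, mem_zpowers b⟩) hr ?_ fun k hk => ?_
    · exact Subtype.ext (by simp [← hb, pow_orderOf_eq_one])
    · have hk' : b * (k : G ⧸ N) * b⁻¹ = k := congrArg Subtype.val hk
      exact Subtype.ext (hbfix k k.2 (mul_inv_eq_iff_eq_mul.1 hk'))
  let e : H0 →* M0 := (q.comp H0.subtype).codRestrict M0 fun x => hmap.le ⟨x, x.2, rfl⟩
  have he : Function.Bijective e := by
    refine ⟨fun a c hac => Subtype.ext (hinj a.2 c.2 (congrArg Subtype.val hac)), fun y => ?_⟩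
    obtain ⟨x, hx, hxy⟩ := hmap.ge y.2
    exact ⟨⟨x, hx⟩, Subtype.ext hxy⟩
  haveI : Group.IsNilpotent H0 :=
    Group.nilpotent_of_surjective (MulEquiv.ofBijective e he).symm.toMonoidHom
      (MulEquiv.ofBijective e he).symm.surjective
  haveI : IsZGroup H0 := ⟨fun p hp R => by
    haveI := Fact.mk hp
    by_cases hp2 : p = 2
    · subst hp2
      by_cases hd : 2 ∣ Nat.card H0
      · exfalso
        obtain ⟨-, s, hs2, -, huniq, -⟩ := H21.even_fpf (H21.conjHom hH0N) hfpf hd
        have hs2' : orderOf (e s) = 2 := by rw [orderOf_injective e he.1, hs2]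
        have hM0n : M0.Normal := inferInstance
        obtain ⟨t, ht⟩ := he.2 ⟨b * (e s : G ⧸ N) * b⁻¹, hM0n.conj_mem _ (e s).2 b⟩
        have htv := congrArg Subtype.val ht
        have hto : orderOf t = 2 := by
          have hco : orderOf ((e t : M0) : G ⧸ N) = 2 := by
            refine (congrArg orderOf htv).trans ?_
            show orderOf (MulAut.conj b ((e s : M0) : G ⧸ N)) = 2
            rw [MulEquiv.orderOf_eq, Subgroup.orderOf_coe, hs2']
          rw [← orderOf_injective e he.1, ← Subgroup.orderOf_coe]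
          exact hco
        rw [huniq t hto] at htv
        have h1 := hbfix (e s) (e s).2 (mul_inv_eq_iff_eq_mul.1 htv.symm)
        rw [show e s = 1 from Subtype.ext h1, orderOf_one] at hs2'
        exact absurd hs2' (by norm_num)
      · haveI : Subsingleton R := by
          rw [← Finite.card_le_one_iff_subsingleton]
          obtain ⟨k, hk⟩ := R.2.exists_card_eq
          rcases k with _ | k
          · rw [hk, pow_zero]
          · exact absurd ((dvd_pow_self 2 (Nat.succ_ne_zero k)).trans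
              (hk ▸ card_subgroup_dvd_card (R : Subgroup H0))) hd
        infer_instance
    · refine H85.isCyclic_of_unique_order_p hp2 R.2 fun a c ha hc => ?_
      have := H21.unique_subgroup_of_fpf R.2 ((H21.conjHom hH0N).comp (R : Subgroup H0).subtype)
        (fun e' he' k hk => hfpf e' (by simpa using he') k hk) (zpowers c) (zpowers a)
        (by rw [Nat.card_zpowers, hc]) (by rw [Nat.card_zpowers, ha])
      exact this ▸ mem_zpowers c⟩
  haveI hcyc0 : IsCyclic H0 := inferInstance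
  haveI hcyc : IsCyclic M0 := isCyclic_of_surjective e he.2
  -- centraliser of `M0`
  have hF : Cfsg.fittingSubgroup (G ⧸ N) ≤ M0 := by
    haveI := H19.fitting_normal (G ⧸ N)
    refine H55.le_piCore inferInstance fun p hp hd hpπ => ?_
    haveI := Fact.mk hp
    haveI := H19.fitting_isNilpotent (G := G ⧸ N)
    set F := Cfsg.fittingSubgroup (G ⧸ N)
    obtain ⟨S⟩ : Nonempty (Sylow p F) := inferInstance
    haveI : (S : Subgroup F).Normal :=
      Sylow.normal_of_normalizerCondition Group.normalizerCondition_of_isNilpotent S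
    haveI : (S : Subgroup F).Characteristic := Sylow.characteristic_of_normal S inferInstance
    have h1 : (S : Subgroup F).map F.subtype = ⊥ := hQcore _ inferInstance fun p' hp' hd' => by
      obtain ⟨k, hk⟩ := S.2.exists_card_eq
      rw [card_map_of_injective F.subtype_injective, hk] at hd'
      exact (Nat.prime_dvd_prime_iff_eq hp' hp).1 (hp'.dvd_of_dvd_pow hd') ▸ hpπ
    rw [map_eq_bot_iff_of_injective _ F.subtype_injective] at h1
    exact S.ne_bot_of_dvd_card hd h1
  have hCM : centralizer (M0 : Set (G ⧸ N)) ≤ M0 :=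
    ((centralizer_le hF).trans H19.centralizer_fitting_le).trans hF
  -- the derived subgroup centralises the cyclic group `M0`
  have hder : commutator (G ⧸ N) ≤ M0 := by
    refine le_trans ?_ hCM
    rw [_root_.commutator_def, commutator_le]
    intro u _ v _
    refine mem_centralizer_iff.2 fun x hx => ?_
    let φ : G ⧸ N →* MulAut M0 := MulAut.conjNormal
    obtain ⟨g, hg⟩ := IsCyclic.exists_generator (α := M0)
    have hcomm : φ u * φ v = φ v * φ u := by
      obtain ⟨i, hi⟩ := mem_zpowers_iff.1 (hg (φ u g))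
      obtain ⟨j, hj⟩ := mem_zpowers_iff.1 (hg (φ v g))
      refine MulEquiv.ext fun y => ?_
      obtain ⟨k, rfl⟩ := mem_zpowers_iff.1 (hg y)
      simp only [MulAut.mul_apply, map_zpow]
      rw [← hj, map_zpow, ← hi, map_zpow, ← hj]
      simp only [← zpow_mul]
      ring_nf
    have h1 : φ ⁅u, v⁆ = 1 := by
      rw [map_commutatorElement, commutatorElement_eq_one_iff_mul_comm]; exact hcomm
    have h3 : φ ⁅u, v⁆ (⟨x, hx⟩ : M0) = ⟨x, hx⟩ := by rw [h1]; rfl
    have h2 : ⁅u, v⁆ * x * ⁅u, v⁆⁻¹ = x := congrArg Subtype.val h3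
    exact (mul_inv_eq_iff_eq_mul.1 h2).symm
  have hidx : H55.PiDvd π M0.index := by
    intro p hp hd
    by_contra hpπ
    haveI := Fact.mk hp
    obtain ⟨S⟩ : Nonempty (Sylow p (G ⧸ N)) := inferInstance
    set X := (S : Subgroup (G ⧸ N)) ⊔ M0
    have hXn : X.Normal := ⟨fun x hx g => by
      have h1 : ⁅g, x⁆ ∈ X := (le_sup_right : M0 ≤ X) (hder (by
        rw [_root_.commutator_def]; exact commutator_mem_commutator (mem_top g) (mem_top x)))
      have := mul_mem h1 hx
      simpa [commutatorElement_def] using this⟩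
    have hS : (S : Subgroup (G ⧸ N)) ≤ M0 := by
      refine le_sup_left.trans (H55.le_piCore hXn fun p' hp' hd' => ?_)
      rcases hp'.dvd_mul.1 (hd'.trans (H55.card_sup_dvd_mul (S : Subgroup (G ⧸ N)) M0)) with h1 | h1
      swap
      · exact hM0π p' hp' h1
      · obtain ⟨k, hk⟩ := S.2.exists_card_eq
        rw [hk] at h1
        exact (Nat.prime_dvd_prime_iff_eq hp' hp).1 (hp'.dvd_of_dvd_pow h1) ▸ hpπ
    exact S.not_dvd_index (hd.trans (index_dvd_of_le hS))
  obtain ⟨B, -, hMB, hBc⟩ := H20.exists_complement_of_coprime (N := M0) (S := ⊤) le_top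
    (le_top.trans (normalizer_eq_top (H := M0)).ge)
    (by rw [relIndex_top_right]; exact (coprime_of_piDvd hidx hM0π).symm)
  rw [relIndex_top_right] at hBc
  have hBπ : H55.PiDvd π (Nat.card B) := hBc ▸ hidx
  have hNltM : N < M := lt_of_le_of_ne hNM fun heq => hM0ne (by
    rw [← map_comap_eq_self_of_surjective hqs M0, ← hMdef, ← heq, QuotientGroup.map_mk'_self])
  refine ⟨N, M, inferInstance, hMn, hNltM, ?_, ?_⟩
  · have hcM : IsComplement' (N.subgroupOf M) (H0.subgroupOf M) := by
      refine isComplement'_of_disjoint_and_mul_eq_univ (disjoint_iff.2 ?_) ?_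
      · show N.comap M.subtype ⊓ H0.comap M.subtype = ⊥
        rw [← comap_inf, hdisj, ← M.ker_subtype, MonoidHom.comap_bot]
      · rw [← normal_mul, ← subgroupOf_sup hNM hH0M, hNH0, subgroupOf_self, coe_top]
    have hfc : Cfsg.IsFrobeniusComplement (H0.subgroupOf M) := by
      refine H21.fc_of_fpf hcM ?_ ?_ fun a ha ha1 => ?_
      · rw [ne_eq, subgroupOf_eq_bot, disjoint_iff, inf_eq_left.2 hNM]; exact hcore
      · rw [ne_eq, subgroupOf_eq_bot, disjoint_iff, inf_eq_left.2 hH0M]; exact hH0ne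
      · refine (eq_bot_iff_forall _).2 fun x hx => Subtype.ext (mem_bot.1
          ((h.inf_centralizer hNπ hH0π a ha (by simpa using ha1)).le ⟨hx.1, ?_⟩))
        exact mem_centralizer_singleton_iff.2
          (congrArg Subtype.val (mem_centralizer_singleton_iff.1 hx.2))
    exact ⟨_, hfc, (H21.coe_eq_kernel_of_isComplement' hfc hcM).symm⟩
  · rw [hMdef, map_comap_eq_self_of_surjective hqs]
    have hcQ : IsComplement' M0 B := by
      refine isComplement'_of_disjoint_and_mul_eq_univ
        (disjoint_iff.2 (inf_eq_bot_of_coprime (coprime_of_piDvd hBπ hM0π).symm)) ?_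
      rw [← normal_mul, hMB, coe_top]
    have hBne : B ≠ ⊥ := fun h0 => hQ (by rw [← hMB, h0, sup_bot_eq])
    have hfc : Cfsg.IsFrobeniusComplement B := by
      refine H21.fc_of_fpf hcQ hM0ne hBne fun a ha ha1 => ?_
      refine (eq_bot_iff_forall _).2 fun x hx =>
        (hQsep.eq_one (pidvd_orderOf hBπ ha) (pidvd_orderOf hM0π hx.1)
          (mem_centralizer_singleton_iff.1 hx.2).symm).resolve_left ha1
    exact ⟨B, hfc, (H21.coe_eq_kernel_of_isComplement' hfc hcQ).symm⟩

end Cfsg.Agent.H84
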